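import Cfsg.Agent.Lib.PushUp.Fam.Leg

/-!
# The group over `S` given by a pushing up situation
-/

set_option autoImplicit false

open scoped commutatorElement

namespace Cfsg.Agent.PushUp

open Cfsg Cfsg.Agent.Small

universe u

variable {G : Type u} [Group G] [Finite G] {p n : ℕ} [hp : Fact p.Prime] {P : Sylow p G} {F : Type} [Field F]
  [Fintype F] {φ : G →* Matrix.ProjectiveSpecialLinearGroup (Fin 2) F}

omit hp in
/-- The image of `Z(J(S))` under an embedding. -/
theorem centerThompsonAOf_range {S : Type u} [Group S] (τ : S →* G) (hτ : Function.Injective τ) :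
    centerThompsonAOf τ.range =
      (thompsonSubgroupA S ⊓ Subgroup.centralizer (thompsonSubgroupA S : Set S)).map τ := by
  have e : thompsonSubgroupAOf τ.range = (thompsonSubgroupA S).map τ := by
    rw [thompsonSubgroupAOf, ← Fusion.map_thompsonSubgroupA (MonoidHom.ofInjective hτ), Subgroup.map_map]
    rfl
  refine le_antisymm ?_ ?_
  · rintro x ⟨hx, hxc⟩
    rw [e] at hx hxc
    obtain ⟨a, ha, rfl⟩ := hx
    refine ⟨a, ⟨ha, Subgroup.mem_centralizer_iff.2 fun b hb => hτ ?_⟩, rfl⟩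
    rw [map_mul, map_mul]
    exact Subgroup.mem_centralizer_iff.1 hxc _ ⟨b, hb, rfl⟩
  · rintro _ ⟨a, ⟨ha, hac⟩, rfl⟩
    refine ⟨e ▸ ⟨a, ha, rfl⟩, Subgroup.mem_centralizer_iff.2 ?_⟩
    rw [e]
    rintro _ ⟨b, hb, rfl⟩
    rw [← map_mul, ← map_mul, Subgroup.mem_centralizer_iff.1 hac b hb]

/-- What holds for all legs holds for the group of a setting with noncentral `Z(S)`. -/
theorem Setting.of_legs (R : Setting p n P F φ) {S : Type u} [Group S] [Finite S] (τ : S →* G)
    (hτ : Function.Injective τ) (hP : (P : Subgroup G) = τ.range)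
    (hz : ¬ (Subgroup.center S).map τ ≤ Subgroup.center G)
    (hJ : ⁅thompsonSubgroupA S ⊓ Subgroup.centralizer (thompsonSubgroupA S : Set S), (⊤ : Subgroup S)⁆ = ⊥)
    (hexp : ∀ z ∈ Subgroup.center S, z ^ p = 1)
    (Φ : ∀ (H : Type u) [Group H], (S →* H) → Prop) (h : ∀ L : Leg S p, Φ L.G L.e) : Φ G τ := by
  classical
  -- the subgroups of the Sylow subgroup
  have hzmem : ∀ z ∈ zS (P : Subgroup G), ∃ a ∈ Subgroup.center S, τ a = z := by
    intro z hz'
    obtain ⟨a, rfl⟩ := hP.le hz'.1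
    refine ⟨a, Subgroup.mem_center_iff.2 fun b => hτ ?_, rfl⟩
    rw [map_mul, map_mul]
    exact Subgroup.mem_centralizer_iff.1 hz'.2 _ (hP.ge ⟨b, rfl⟩)
  have hz0 : ¬ zS (P : Subgroup G) ≤ Subgroup.center G := fun hle => hz (by
    rintro _ ⟨a, ha, rfl⟩
    refine hle ⟨hP.ge ⟨a, rfl⟩, Subgroup.mem_centralizer_iff.2 fun x hx => ?_⟩
    obtain ⟨b, rfl⟩ := hP.le hx
    rw [← map_mul, ← map_mul, Subgroup.mem_center_iff.1 ha b])
  have hJ0 : (P : Subgroup G) ≤ Subgroup.centralizer (centerThompsonAOf (P : Subgroup G) : Set G) := by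
    rw [hP, centerThompsonAOf_range τ hτ]
    rintro _ ⟨b, rfl⟩
    refine Subgroup.mem_centralizer_iff.2 ?_
    rintro _ ⟨a, ha, rfl⟩
    rw [← map_mul, ← map_mul]
    refine congrArg τ (commutatorElement_eq_one_iff_mul_comm.1 ?_)
    rw [← Subgroup.mem_bot, ← hJ]
    exact Subgroup.commutator_mem_commutator ha (Subgroup.mem_top b)
  have hexp0 : ∀ z ∈ zS (P : Subgroup G), z ^ p = 1 := fun z hz' => by
    obtain ⟨a, ha, rfl⟩ := hzmem z hz'
    rw [← map_pow, hexp a ha, map_one]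
  set SS := (P : Subgroup G) with hSS
  set Q := pCore p G
  set Y := yS SS
  have h0 : PUp0 SS Q Y R.M p (p ^ n) := R.pUp0 hz0 hJ0 hexp0
  haveI := h0.Qn; haveI := h0.Yn
  obtain ⟨g, hg⟩ := h0.exists_not_mem_M
  obtain ⟨s₁, hs₁, hs₁Q⟩ := h0.exists_notQ
  have htor := R.torus hg
  obtain ⟨RY, cY, hRY, hcY⟩ :=
    (h0.sect P.2).exists_nat h0 hg hs₁ hs₁Q φ.normal_ker R.ker_le htor F R.hF
  have hchar : (p : F) = 0 := by
    have h1 : ((p ^ n : ℕ) : F) = 0 := R.hF ▸ FiniteField.cast_card_eq_zero F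
    rw [Nat.cast_pow] at h1
    exact eq_zero_of_pow_eq_zero h1
  -- elements of the maximal subgroup may be moved into the normalizer
  have hnorm : ∀ x ∈ R.M, ∃ y ∈ Subgroup.normalizer (SS : Set G), RY y = RY x := by
    intro x hx
    set H := RY.ker ⊔ SS with hH
    have hSH : SS ≤ H := le_sup_right
    have hSx : ((x • P : Sylow p G) : Subgroup G) ≤ H := by
      intro y hy
      rw [Sylow.coe_subgroup_smul] at hy
      obtain ⟨s, hs, rfl⟩ : ∃ s ∈ SS, x * s * x⁻¹ = y := by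
        obtain ⟨s, hs, e⟩ := hy
        exact ⟨s, hs, e⟩
      obtain ⟨a, ha⟩ := hRY.upper s hs
      obtain ⟨t, ht, hta⟩ := hRY.exists_upper ((RY x).1 0 0 * (RY x).1 0 0 * a)
      rw [show x * s * x⁻¹ = x * s * x⁻¹ * t⁻¹ * t by group]
      refine mul_mem (Subgroup.mem_sup_left ?_) (Subgroup.mem_sup_right ht)
      rw [MonoidHom.mem_ker, map_mul, map_inv, hta, hRY.conj_upper hx ha, mul_inv_cancel]
    obtain ⟨k, hk⟩ := MulAction.exists_smul_eq ↥H ((x • P).subtype hSx) (P.subtype hSH)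
    rw [Sylow.smul_subtype] at hk
    have hk' := Sylow.subtype_injective hk
    obtain ⟨⟨s, hs⟩, ⟨c, hc⟩, hck⟩ : ∃ (s : SS) (c : RY.ker), (s : G) * c = k := by
      obtain ⟨c, hc, s, hs, e⟩ := Subgroup.mem_sup_of_normal_left.1 k.2
      refine ⟨⟨s, hs⟩, ⟨s⁻¹ * c * s, ?_⟩, by simp [← e, mul_assoc]⟩
      simpa using (RY.normal_ker).conj_mem c hc s⁻¹
    refine ⟨c * x, ?_, by rw [map_mul, MonoidHom.mem_ker.1 hc, one_mul]⟩
    have h1 : (k : G) * x ∈ Subgroup.normalizer (SS : Set G) := by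
      rw [Subgroup.smul_def, smul_smul] at hk'
      exact Sylow.smul_eq_iff_mem_normalizer.1 hk'
    have h2 := mul_mem (inv_mem (Subgroup.le_normalizer hs)) h1
    simpa [← hck, mul_assoc] using h2
  -- the core's centre
  have hO : Offending R := by
    rcases R.cases with h' | h' | h'
    · exact absurd h' hz0
    · exfalso
      rw [cZJ, inf_eq_left.2 hJ0] at h'
      haveI := h'
      have h1 := R.idxS
      rw [Subgroup.relIndex_eq_one.2 (Fusion.le_pCore P.2)] at h1
      have := h0.two_le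
      omega
    · exact h'
  obtain ⟨A, hA, hAQ⟩ := hO.exA
  obtain ⟨-, -, hB, hAS, -⟩ := hO.counts hA hAQ
  have hZQ : ∀ x ∈ Q, (∀ w ∈ Q, Commute w x) → x ∈ Y := by
    intro x hx hxc
    have hxB : x ∈ Y ⊔ (A ⊓ Q) := by
      refine Fusion.mem_of_maxIn hB (R.Q_le hx) (Fusion.isMulCommutative_closure_insert hB.2.1 fun a ha => ?_)
      exact (hxc a (sup_le R.Y_le_Q inf_le_right ha)).eq.symm
    obtain ⟨y, hy, a, ha, rfl⟩ := Subgroup.mem_sup_of_normal_left.1 hxB
    refine mul_mem hy (h0.Z_le ⟨R.Q_le ha.2, Subgroup.mem_centralizer_iff.2 fun s hs => ?_⟩)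
    rw [SetLike.mem_coe, hSS, ← hAS] at hs
    obtain ⟨b, hb, w, hw, rfl⟩ := Subgroup.mem_sup_of_normal_right.1 hs
    have h1 : Commute b a := congrArg Subtype.val (hA.2.1.1.1 ⟨b, hb⟩ ⟨a, ha.1⟩)
    have h2 : Commute w y := (Subgroup.mem_centralizer_iff.1 (R.Q_le_CY hw) y hy).symm
    have h3 : Commute w a := by
      have h4 := (h2.inv_right).mul_right (hxc w hw)
      rwa [inv_mul_cancel_left] at h4
    exact (h1.mul_left h3).eq
  have hA' : ∃ A' : Subgroup S, IsMulCommutative A' ∧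
      (∀ B : Subgroup S, IsMulCommutative B → Nat.card B ≤ Nat.card A') ∧ A' ⊔ Q.comap τ = ⊤ := by
    haveI := hA.2.1
    have hAr : A ≤ τ.range := hA.1.trans hP.le
    refine ⟨A.comap τ, ⟨⟨fun a b => Subtype.ext (hτ ?_)⟩⟩, fun B hB' => ?_, ?_⟩
    · rw [Subgroup.coe_mul, Subgroup.coe_mul, map_mul, map_mul]
      exact congrArg Subtype.val (hA.2.1.1.1 ⟨τ a, a.2⟩ ⟨τ b, b.2⟩)
    · haveI := hB'
      rw [← Subgroup.card_map_of_injective (K := B) hτ, ← Subgroup.card_map_of_injective (K := A.comap τ) hτ,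
        Subgroup.map_comap_eq_self hAr]
      exact hA.2.2 _ ((Subgroup.map_le_range τ B).trans hP.ge) inferInstance
    · refine Subgroup.map_injective hτ ?_
      rw [Subgroup.map_sup, Subgroup.map_comap_eq_self hAr, Subgroup.map_comap_eq_self (R.Q_le.trans hP.le),
        ← MonoidHom.range_eq_map, ← hP]
      exact hAS
  exact h
    { G := G
      e := τ
      inj := hτ
      Q := Q
      Y := Y
      M := R.M
      K := φ.ker
      F := F
      g0 := g
      s₁ := s₁
      RY := RY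
      cY := cY
      char := hchar
      pup := by rw [R.hF, ← hP]; exact h0
      hg := hg
      hs₁ := hP ▸ hs₁
      hs₁Q := hs₁Q
      coord := hP ▸ hRY
      sect := hcY
      hKn := φ.normal_ker
      hKM := R.ker_le
      htor := htor
      hnorm := hP ▸ hnorm
      Z_Q := hZQ
      exA := hA' }

end Cfsg.Agent.PushUp
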