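import Cfsg.Agent.Lib.PushUp.Fam.Main
import Cfsg.Agent.Lib.PushUp.Fam.OfSetting

/-!
# The choice of the two characteristic subgroups
-/

set_option autoImplicit false

open scoped commutatorElement

namespace Cfsg.Agent.PushUp

open Cfsg

universe u

variable {S : Type u} [Group S]

theorem char_subgroupOf_of_eq_top [Finite S] {K H : Subgroup S} (hK : K.Characteristic) (hH : H = ⊤) :
    (K.subgroupOf H).Characteristic := by
  subst hH
  refine subgroupOf_characteristic fun σ x hx => ?_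
  have h1 := (Subgroup.characteristic_iff_le_comap.1 hK
    (Subgroup.topEquiv.symm.trans (σ.trans Subgroup.topEquiv))) hx
  exact h1

theorem normal_map_of_central {G : Type u} [Group G] (τ : S →* G) {K : Subgroup S}
    (h : K.map τ ≤ Subgroup.center G) : (K.map τ).Normal :=
  ⟨fun x hx g => by rwa [Subgroup.mem_center_iff.1 (h hx) g, mul_inv_cancel_right]⟩

theorem map_center_range {G : Type u} [Group G] (τ : S →* G) (hτ : Function.Injective τ) :
    (Subgroup.center S).map τ = zS τ.range := by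
  refine le_antisymm ?_ ?_
  · rintro _ ⟨z, hz, rfl⟩
    refine ⟨⟨z, rfl⟩, Subgroup.mem_centralizer_iff.2 ?_⟩
    rintro _ ⟨b, rfl⟩
    rw [← map_mul, ← map_mul, Subgroup.mem_center_iff.1 hz b]
  · rintro _ ⟨⟨z, rfl⟩, hz⟩
    refine ⟨z, Subgroup.mem_center_iff.2 fun b => hτ ?_, rfl⟩
    rw [map_mul, map_mul]
    exact Subgroup.mem_centralizer_iff.1 hz _ ⟨b, rfl⟩

theorem map_centralizer_range {G : Type u} [Group G] (τ : S →* G) (hτ : Function.Injective τ) (K : Subgroup S) :
    (Subgroup.centralizer (K : Set S)).map τ = τ.range ⊓ Subgroup.centralizer ((K.map τ : Subgroup G) : Set G) := by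
  refine le_antisymm ?_ ?_
  · rintro _ ⟨c, hc, rfl⟩
    refine ⟨⟨c, rfl⟩, Subgroup.mem_centralizer_iff.2 ?_⟩
    rintro _ ⟨k, hk, rfl⟩
    rw [← map_mul, ← map_mul, Subgroup.mem_centralizer_iff.1 hc k hk]
  · rintro _ ⟨⟨c, rfl⟩, hc⟩
    refine ⟨c, Subgroup.mem_centralizer_iff.2 fun k hk => hτ ?_, rfl⟩
    rw [map_mul, map_mul]
    exact Subgroup.mem_centralizer_iff.1 hc _ ⟨k, hk, rfl⟩

end Cfsg.Agent.PushUp
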