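import Cfsg.Agent.Lib.PushUp.Fam.Flat
import Mathlib.GroupTheory.PushoutI

/-!
# The amalgam over `S` of a family of groups
-/

set_option autoImplicit false

open scoped commutatorElement

namespace Cfsg.Agent.PushUp.Fam

open Cfsg Cfsg.Agent.PushUp

universe u

variable {S : Type u} [Group S] {p : ℕ}

/-- The members of a family. -/
abbrev Ix (B : Leg S p → Prop) : Type (u + 1) := {L : Leg S p // B L}

variable (B : Leg S p → Prop)

/-- The amalgam over `S` of the members of the family. -/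
abbrev Amal : Type (u + 1) := Monoid.PushoutI (fun i : Ix B => i.1.e)

/-- The `Y` of the members. -/
def yI : ∀ i : Ix B, Subgroup i.1.G := fun i => i.1.Y

/-- The cores of the members. -/
def qI : ∀ i : Ix B, Subgroup i.1.G := fun i => i.1.Q

/-- The central elements in the `Y` of the members. -/
def cI : ∀ i : Ix B, Subgroup i.1.G := fun i => cenIn i.1.Y

/-- The subgroup generated by all the `Y`. -/
def uB : Subgroup S := ⨆ i : Ix B, i.1.yb

variable {B}

/-- The subgroup generated by all the `Y` is not normal in the member. -/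
def Nn (i : Ix B) : Prop := ¬ ((uB B).map i.1.e).Normal

variable (B) in
/-- Every member has a companion with the same `Y` in which `uB` is not normal. -/
def Twin : Prop := ∀ i : Ix B, ∃ j : Ix B, j.1.yb = i.1.yb ∧ Nn j

/-- The copy of a member. -/
def io (i : Ix B) : i.1.G →* Amal B := Monoid.PushoutI.of (φ := fun i : Ix B => i.1.e) i

/-- The copy of a member, moved by `f`. -/
def emb (f : Amal B) (i : Ix B) : i.1.G →* Amal B := (MulAut.conj f).toMonoidHom.comp (io i)

/-- The Sylow subgroup at `f`. -/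
def bs (f : Amal B) : S →* Amal B :=
  (MulAut.conj f).toMonoidHom.comp (Monoid.PushoutI.base (fun i : Ix B => i.1.e))

theorem emb_injective (f : Amal B) (i : Ix B) : Function.Injective (emb f i) :=
  (MulAut.conj f).injective.comp
    (Monoid.PushoutI.of_injective (φ := fun i : Ix B => i.1.e) (fun j => j.1.inj) i :
      Function.Injective (io i))

theorem bs_injective (f : Amal B) : Function.Injective (bs f) :=
  (MulAut.conj f).injective.comp
    (Monoid.PushoutI.base_injective (φ := fun i : Ix B => i.1.e) fun j => j.1.inj)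

theorem emb_apply (f : Amal B) (i : Ix B) (x : i.1.G) : emb f i x = f * io i x * f⁻¹ := rfl

theorem io_e (i : Ix B) (s : S) : io i (i.1.e s) = Monoid.PushoutI.base (fun j : Ix B => j.1.e) s :=
  Monoid.PushoutI.of_apply_eq_base (fun j : Ix B => j.1.e) i s

theorem emb_e (f : Amal B) (i : Ix B) (s : S) : emb f i (i.1.e s) = bs f s := by
  rw [emb_apply, io_e]; rfl

theorem emb_comp (f : Amal B) (i : Ix B) : (emb f i).comp i.1.e = bs f := MonoidHom.ext (emb_e f i)

theorem emb_mul (f : Amal B) (i : Ix B) (g x : i.1.G) : emb (f * io i g) i x = emb f i (g * x * g⁻¹) := by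
  rw [emb_apply, emb_apply, map_mul, map_mul, map_inv]
  group

theorem emb_shift (f : Amal B) (i j : Ix B) (g : i.1.G) (x : j.1.G) :
    emb (f * io i g) j x = emb f i g * emb f j x * (emb f i g)⁻¹ := by
  simp only [emb_apply]
  group

theorem emb_left (a f : Amal B) (i : Ix B) (x : i.1.G) : emb (a * f) i x = a * emb f i x * a⁻¹ := by
  simp only [emb_apply]
  group

theorem bs_shift (f : Amal B) (i : Ix B) (g : i.1.G) (s : S) :
    bs (f * io i g) s = emb f i (g * i.1.e s * g⁻¹) := by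
  rw [← emb_e (f * io i g) i, emb_mul]

theorem map_emb_mul (f : Amal B) (i : Ix B) (g : i.1.G) {X : Subgroup i.1.G} (hX : X.Normal) :
    X.map (emb (f * io i g) i) = X.map (emb f i) := by
  ext y
  constructor
  · rintro ⟨x, hx, rfl⟩
    exact ⟨_, hX.conj_mem x hx g, (emb_mul f i g x).symm⟩
  · rintro ⟨x, hx, rfl⟩
    refine ⟨g⁻¹ * x * g, by simpa using hX.conj_mem x hx g⁻¹, ?_⟩
    rw [emb_mul]; congr 1; group

theorem range_emb_mul (f : Amal B) (i : Ix B) (g : i.1.G) : (emb (f * io i g) i).range = (emb f i).range := by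
  rw [MonoidHom.range_eq_map, MonoidHom.range_eq_map]
  exact map_emb_mul f i g inferInstance

theorem conj_mem_map {f : Amal B} {i : Ix B} {X : Subgroup i.1.G} (hX : X.Normal) {x g : Amal B}
    (hx : x ∈ X.map (emb f i)) (hg : g ∈ (emb f i).range) : g * x * g⁻¹ ∈ X.map (emb f i) := by
  obtain ⟨a, ha, rfl⟩ := hx
  obtain ⟨b, rfl⟩ := hg
  exact ⟨_, hX.conj_mem a ha b, by simp⟩

/-- The Sylow subgroup at a star. -/
def sh (f : Amal B) : Subgroup (Amal B) := (bs f).range

/-- The centre of the Sylow subgroup at a star. -/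
def zh (f : Amal B) : Subgroup (Amal B) := (Subgroup.center S).map (bs f)

theorem yI_normal (i : Ix B) : (yI B i).Normal := i.1.pup.Yn

theorem qI_normal (i : Ix B) : (qI B i).Normal := i.1.pup.Qn

theorem cI_normal (i : Ix B) : (cI B i).Normal := i.1.cen_Y_normal

theorem map_yI (f : Amal B) (i : Ix B) : (yI B i).map (emb f i) = i.1.yb.map (bs f) := by
  rw [← emb_comp f i, ← Subgroup.map_map, i.1.map_yb]; rfl

theorem map_qI (f : Amal B) (i : Ix B) : (qI B i).map (emb f i) = i.1.qb.map (bs f) := by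
  rw [← emb_comp f i, ← Subgroup.map_map, i.1.map_qb]; rfl

theorem map_cI (f : Amal B) (i : Ix B) : (cI B i).map (emb f i) = i.1.cb.map (bs f) := by
  rw [← emb_comp f i, ← Subgroup.map_map]
  congr 1
  exact (Subgroup.map_comap_eq_self (inf_le_left.trans i.1.Y_le)).symm

/-- An edge: a star with two of the vertices on it. -/
structure Dart (B : Leg S p → Prop) : Type (u + 1) where
  f : Amal B
  l : Ix B
  r : Ix B

namespace Dart

/-- The edge in the other direction. -/
def rev (d : Dart B) : Dart B := ⟨d.f, d.r, d.l⟩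

/-- A subgroup of each member, seen at the first vertex. -/
abbrev src (d : Dart B) (X : ∀ i : Ix B, Subgroup i.1.G) : Subgroup (Amal B) := (X d.l).map (emb d.f d.l)

/-- A subgroup of each member, seen at the second vertex. -/
abbrev tgt (d : Dart B) (X : ∀ i : Ix B, Subgroup i.1.G) : Subgroup (Amal B) := (X d.r).map (emb d.f d.r)

end Dart

/-- Two consecutive edges. -/
def Link (d d' : Dart B) : Prop := d'.l = d.r ∧ ∃ g : d.r.1.G, d'.f = d.f * io d.r g

/-- Two consecutive edges with different Sylow subgroups. -/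
def Turn (d d' : Dart B) : Prop := d'.l = d.r ∧ ∃ g : d.r.1.G, g ∉ d.r.1.M ∧ d'.f = d.f * io d.r g

theorem Turn.link {d d' : Dart B} (h : Turn d d') : Link d d' := by
  obtain ⟨h1, g, -, h2⟩ := h
  exact ⟨h1, g, h2⟩

theorem Link.rev {d d' : Dart B} (h : Link d d') : Link d'.rev d.rev := by
  obtain ⟨f', l', r'⟩ := d'
  obtain ⟨h1, g, h2⟩ := h
  dsimp only at h1 h2
  subst h1 h2
  exact ⟨rfl, g⁻¹, show d.f = d.f * io d.r g * io d.r g⁻¹ by rw [map_inv, mul_inv_cancel_right]⟩

theorem Turn.rev {d d' : Dart B} (h : Turn d d') : Turn d'.rev d.rev := by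
  obtain ⟨f', l', r'⟩ := d'
  obtain ⟨h1, g, hg, h2⟩ := h
  dsimp only at h1 h2
  subst h1 h2
  exact ⟨rfl, g⁻¹, fun hc => hg ((Subgroup.inv_mem_iff d.r.1.M).1 hc),
    show d.f = d.f * io d.r g * io d.r g⁻¹ by rw [map_inv, mul_inv_cancel_right]⟩

theorem Link.src_eq {d d' : Dart B} (h : Link d d') {X : ∀ i : Ix B, Subgroup i.1.G} (hX : ∀ i, (X i).Normal) :
    d'.src X = d.tgt X := by
  obtain ⟨f', l', r'⟩ := d'
  obtain ⟨h1, g, h2⟩ := h
  dsimp only at h1 h2
  subst h1 h2
  exact map_emb_mul _ _ g (hX _)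

theorem sh_range (f : Amal B) (i : Ix B) : sh f ≤ (emb f i).range := by
  rintro _ ⟨s, rfl⟩
  exact ⟨_, emb_e f i s⟩

theorem Q_sh (f : Amal B) (i : Ix B) : (qI B i).map (emb f i) ≤ sh f :=
  map_qI f i ▸ Subgroup.map_le_range _ _

theorem Y_sh (f : Amal B) (i : Ix B) : (yI B i).map (emb f i) ≤ sh f :=
  map_yI f i ▸ Subgroup.map_le_range _ _

theorem Y_le_Q (f : Amal B) (i : Ix B) : (yI B i).map (emb f i) ≤ (qI B i).map (emb f i) :=
  Subgroup.map_mono i.1.pup.Y_le

theorem zh_le (f : Amal B) (i : Ix B) : zh f ≤ (yI B i).map (emb f i) :=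
  map_yI f i ▸ Subgroup.map_mono i.1.center_le_yb

theorem cI_le_zh (f : Amal B) (i : Ix B) : (cI B i).map (emb f i) ≤ zh f :=
  map_cI f i ▸ Subgroup.map_mono i.1.cb_le_center

theorem commute_Q {f : Amal B} {i : Ix B} {x y : Amal B} (hx : x ∈ (qI B i).map (emb f i))
    (hy : y ∈ (yI B i).map (emb f i)) : Commute y x := by
  rw [map_qI] at hx
  rw [map_yI] at hy
  obtain ⟨a, ha, rfl⟩ := hx
  obtain ⟨b, hb, rfl⟩ := hy
  exact (i.1.commute_qb_yb ha hb).map _

theorem commute_Y {f : Amal B} {i : Ix B} {x y : Amal B} (hx : x ∈ (yI B i).map (emb f i))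
    (hy : y ∈ (yI B i).map (emb f i)) : Commute y x :=
  commute_Q (Y_le_Q f i hx) hy

theorem commute_C {f : Amal B} {i : Ix B} {c x : Amal B} (hc : c ∈ (cI B i).map (emb f i))
    (hx : x ∈ (emb f i).range) : Commute c x := by
  obtain ⟨a, ha, rfl⟩ := hc
  obtain ⟨b, rfl⟩ := hx
  exact (show Commute a b from (Subgroup.mem_center_iff.1 ha.2 b).symm).map _

theorem commute_zh {f : Amal B} {c x : Amal B} (hc : c ∈ zh f) (hx : x ∈ sh f) : Commute c x := by
  obtain ⟨a, ha, rfl⟩ := hc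
  obtain ⟨b, rfl⟩ := hx
  exact (show Commute a b from (Subgroup.mem_center_iff.1 ha b).symm).map _

theorem sep {f : Amal B} {i : Ix B} {z w : Amal B} (hz : z ∈ (yI B i).map (emb f i)) (hw : w ∈ sh f)
    (hwQ : w ∉ (qI B i).map (emb f i)) (hzw : ⁅z, w⁆ ∈ (cI B i).map (emb f i)) : z ∈ zh f := by
  rw [map_yI] at hz
  rw [map_qI] at hwQ
  rw [map_cI] at hzw
  obtain ⟨y, hy, rfl⟩ := hz
  obtain ⟨s, rfl⟩ := hw
  rw [← map_commutatorElement, Subgroup.mem_map_iff_mem (bs_injective f)] at hzw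
  exact ⟨y, i.1.cent (fun hs => hwQ ⟨s, hs, rfl⟩) hy hzw, rfl⟩

theorem sep' {f : Amal B} {i : Ix B} {z w : Amal B} (hz : z ∈ (yI B i).map (emb f i)) (hw : w ∈ sh f)
    (hwQ : w ∉ (qI B i).map (emb f i)) (hzw : Commute z w) : z ∈ zh f :=
  sep hz hw hwQ (by rw [commutatorElement_eq_one_iff_commute.2 hzw]; exact one_mem _)

theorem Y_not_le_zh (f : Amal B) (i : Ix B) : ¬ (yI B i).map (emb f i) ≤ zh f := by
  rw [map_yI, zh, Subgroup.map_le_map_iff_of_injective (bs_injective f)]
  intro hc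
  obtain ⟨y, hy, hyz⟩ := i.1.exists_not_center
  exact hyz (hc hy)

theorem gen {f : Amal B} {i : Ix B} {g : i.1.G} (hg : g ∉ i.1.M) {w : Amal B} (hw : w ∈ sh (f * io i g))
    (hwQ : w ∉ (qI B i).map (emb f i)) {H : Subgroup (Amal B)} (hS : sh f ≤ H) (hwH : w ∈ H) :
    (emb f i).range ≤ H := by
  obtain ⟨s, rfl⟩ := hw
  rw [bs_shift] at hwQ hwH
  have hnQ : g * i.1.e s * g⁻¹ ∉ i.1.Q := fun hc => hwQ ⟨_, hc, rfl⟩
  have hnM : g * i.1.e s * g⁻¹ ∉ i.1.M := fun hc =>
    hnQ (i.1.pup.ti g hg _ hc ⟨s, by group⟩)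
  have htop : H.comap (emb f i) = ⊤ := i.1.pup.top _ (by
    rintro _ ⟨x, rfl⟩
    exact hS ⟨x, (emb_e f i x).symm⟩) fun hle => hnM (hle hwH)
  rintro _ ⟨x, rfl⟩
  exact (htop.ge (Subgroup.mem_top x) : x ∈ H.comap (emb f i))

theorem cap {f : Amal B} {i : Ix B} {g : i.1.G} (hg : g ∉ i.1.M) {c : Amal B} (hc : c ∈ zh f)
    (hc' : c ∈ zh (f * io i g)) : c ∈ (cI B i).map (emb f i) := by
  obtain ⟨z, hz, rfl⟩ := hc
  obtain ⟨z', hz', he⟩ := hc'
  rw [bs_shift, ← emb_e f i z] at he
  have he' := emb_injective f i he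
  refine ⟨i.1.e z, i.1.pup.mem_cenIn hg (i.1.e_mem_zS.2 hz) ?_, emb_e f i z⟩
  rw [← he', show g⁻¹ * (g * i.1.e z' * g⁻¹) * g = i.1.e z' by group]
  exact i.1.e_mem_zS.2 hz'

/-- A sequence of `k` consecutive edges. -/
def Chain (k : ℕ) (d : ℕ → Dart B) : Prop := ∀ i, i + 1 < k → Link (d i) (d (i + 1))

/-- All inner vertices of the path are turns. -/
def Turns (b : ℕ) (d : ℕ → Dart B) : Prop := ∀ i, i + 1 < b → Turn (d i) (d (i + 1))

variable (B) in
/-- All paths of fewer than `b` edges commute. -/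
def ShortPaths (b : ℕ) : Prop :=
  ∀ k, 1 ≤ k → k < b → ∀ d : ℕ → Dart B, Chain k d → (d 0).src (yI B) ≤ (d (k - 1)).tgt (qI B)

/-- A path of `b` edges whose ends do not commute. -/
structure Crit (b : ℕ) (d : ℕ → Dart B) : Prop where
  chain : Chain b d
  not_le : ¬ (d 0).src (yI B) ≤ (d (b - 1)).tgt (qI B)

/-- Putting an edge in front. -/
def consD (e : Dart B) (d : ℕ → Dart B) : ℕ → Dart B
  | 0 => e
  | i + 1 => d i

/-- The reversed path. -/
def revD (b : ℕ) (d : ℕ → Dart B) : ℕ → Dart B := fun i => (d (b - 1 - i)).rev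

theorem Chain.mono {k k' : ℕ} {d : ℕ → Dart B} (hd : Chain k d) (hk : k' ≤ k) : Chain k' d :=
  fun i hi => hd i (by omega)

theorem Chain.cons {k : ℕ} {e : Dart B} {d : ℕ → Dart B} (hd : Chain k d) (he : Link e (d 0)) :
    Chain (k + 1) (consD e d) := fun i hi => by
  cases i with
  | zero => exact he
  | succ i => exact hd i (by omega)

theorem Chain.reverse {k : ℕ} {d : ℕ → Dart B} (hd : Chain k d) : Chain k (revD k d) := fun i hi => by
  have h1 := (hd (k - 1 - (i + 1)) (by omega)).rev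
  rwa [show k - 1 - (i + 1) + 1 = k - 1 - i by omega] at h1

theorem Turns.reverse {b : ℕ} {d : ℕ → Dart B} (hd : Turns b d) : Turns b (revD b d) := fun i hi => by
  have h1 := (hd (b - 1 - (i + 1)) (by omega)).rev
  rwa [show b - 1 - (i + 1) + 1 = b - 1 - i by omega] at h1

theorem Turns.cons {b : ℕ} {e : Dart B} {d : ℕ → Dart B} (hd : Turns b d) (he : Turn e (d 0)) :
    Turns b (consD e d) := fun i hi => by
  cases i with
  | zero => exact he
  | succ i => exact hd i (by omega)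

theorem Crit.link {b : ℕ} {d : ℕ → Dart B} (hc : Crit b d) (hb : 2 ≤ b) : Link (d 0) (d 1) :=
  hc.chain 0 (by omega)

end Cfsg.Agent.PushUp.Fam
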