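import Cfsg.Agent.Lib.PushUp.Fam.Leg
import Cfsg.Agent.Lib.Solv.PGroupPhi
import Cfsg.Agent.Lib.Fusion.AlperinOmega

/-!
# The part `Φ(Q)·(Y ∩ Z(G))` and a bound for `S₀`
-/

set_option autoImplicit false

open scoped commutatorElement

namespace Cfsg.Agent.PushUp

open Cfsg

universe u

/-- The subgroup `S₀`. -/
def sZero (p : ℕ) (S : Type u) [Group S] : Subgroup S :=
  if p = 2 then ⁅frattini S, (⊤ : Subgroup S)⁆ ⊔ (frattini ↥(frattini S)).map (frattini S).subtype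
  else if p = 3 then
    ⁅⁅frattini S, (⊤ : Subgroup S)⁆, (⊤ : Subgroup S)⁆ ⊔ (frattini ↥(frattini S)).map (frattini S).subtype
  else ⁅frattini S, (⊤ : Subgroup S)⁆ ⊔ powerClosure p 1 (⊤ : Subgroup S)

section Bound

variable {S : Type u} [Group S] [Finite S] {p : ℕ} [hp : Fact p.Prime]

theorem frattini_frattini_le {N : Subgroup S} [N.Normal]
    (h1 : ∀ a ∈ frattini S, ∀ b ∈ frattini S, ⁅a, b⁆ ∈ N) (h2 : ∀ a ∈ frattini S, a ^ p ∈ N) :
    (frattini ↥(frattini S)).map (frattini S).subtype ≤ N := by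
  refine Subgroup.map_le_iff_le_comap.2 (Solv.frattini_le (p := p) _ (fun a b => ?_) fun a => ?_)
  · exact h1 a a.2 b b.2
  · exact h2 a a.2

theorem comm_comm_le {A : Subgroup S} {N : Subgroup S} (h : ∀ a ∈ A, ∀ s t : S, ⁅⁅a, s⁆, t⁆ ∈ N) [N.Normal] :
    ⁅⁅A, (⊤ : Subgroup S)⁆, (⊤ : Subgroup S)⁆ ≤ N := by
  set π := QuotientGroup.mk' N
  have hπ : ∀ x, π x = 1 ↔ x ∈ N := fun x => QuotientGroup.eq_one_iff x
  have h1 : ⁅A, (⊤ : Subgroup S)⁆ ≤ (Subgroup.center (S ⧸ N)).comap π := Subgroup.commutator_le.2 fun a ha s _ => by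
    refine Subgroup.mem_center_iff.2 fun w => ?_
    obtain ⟨t, rfl⟩ := QuotientGroup.mk'_surjective N w
    exact (commutatorElement_eq_one_iff_mul_comm.1 (by rw [← map_commutatorElement, hπ]; exact h a ha s t)).symm
  refine Subgroup.commutator_le.2 fun x hx t _ => ?_
  rw [← hπ, map_commutatorElement, commutatorElement_eq_one_iff_mul_comm]
  exact (Subgroup.mem_center_iff.1 (h1 hx) (π t)).symm

/-- `S₀` vanishes modulo a subgroup with quotient of class two whose powers are small. -/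
theorem sZero_le (N : Subgroup S) [N.Normal] (h1 : ∀ a b c : S, ⁅⁅a, b⁆, c⁆ ∈ N)
    (h2 : ∀ a c : S, ⁅a ^ p, c⁆ ∈ N) (h3 : ∀ a : S, (a ^ p) ^ p ∈ N) (h4 : p ≠ 2 → p ≠ 3 → ∀ a : S, a ^ p ∈ N) :
    sZero p S ≤ N := by
  set π := QuotientGroup.mk' N
  have hπ : ∀ x, π x = 1 ↔ x ∈ N := fun x => QuotientGroup.eq_one_iff x
  have hsurj : Function.Surjective π := QuotientGroup.mk'_surjective N
  set C := (Subgroup.center (S ⧸ N)).comap π with hC
  have hmem : ∀ x : S, (∀ c, ⁅x, c⁆ ∈ N) → x ∈ C := fun x hx => Subgroup.mem_center_iff.2 fun w => by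
    obtain ⟨t, rfl⟩ := hsurj w
    exact (commutatorElement_eq_one_iff_mul_comm.1 (by rw [← map_commutatorElement, hπ]; exact hx t)).symm
  let D : Subgroup S :=
  { carrier := {x | x ∈ C ∧ x ^ p ∈ N}
    one_mem' := ⟨one_mem _, by rw [one_pow]; exact one_mem _⟩
    mul_mem' := fun {a b} ha hb => ⟨mul_mem ha.1 hb.1, by
      have hc : Commute (π a) (π b) := (Subgroup.mem_center_iff.1 ha.1 (π b)).symm
      rw [← hπ, map_pow, map_mul, hc.mul_pow, ← map_pow, ← map_pow, (hπ _).2 ha.2, (hπ _).2 hb.2, one_mul]⟩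
    inv_mem' := fun {a} ha => ⟨inv_mem ha.1, by rw [inv_pow]; exact inv_mem ha.2⟩ }
  haveI hDn : D.Normal := ⟨fun x hx g => by
    have e : π (g * x * g⁻¹) = π x := by
      rw [map_mul, map_mul, map_inv, Subgroup.mem_center_iff.1 hx.1, mul_inv_cancel_right]
    refine ⟨show π _ ∈ Subgroup.center _ from e ▸ hx.1, ?_⟩
    rw [← hπ, map_pow, e, ← map_pow, hπ]
    exact hx.2⟩
  have hΦ : frattini S ≤ D := Solv.frattini_le (p := p) D
    (fun a b => ⟨hmem _ (h1 a b), by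
      -- the commutator map is linear modulo `N`
      have key : ∀ k : ℕ, π ⁅a ^ k, b⁆ = π ⁅a, b⁆ ^ k := by
        intro k
        induction k with
        | zero => simp
        | succ k ih =>
          have hc := Subgroup.mem_center_iff.1 (hmem _ (h1 (a ^ k) b) : π ⁅a ^ k, b⁆ ∈ Subgroup.center _)
          rw [pow_succ', show ⁅a * a ^ k, b⁆ = a * ⁅a ^ k, b⁆ * a⁻¹ * ⁅a, b⁆ by
            simp only [commutatorElement_def]; group, map_mul, map_mul, map_mul, map_inv, hc, mul_inv_cancel_right,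
            ih, pow_succ]
      rw [← hπ, map_pow, ← key, hπ]
      exact h2 a b⟩)
    fun a => ⟨hmem _ (h2 a), h3 a⟩
  have hΦS : ⁅frattini S, (⊤ : Subgroup S)⁆ ≤ N := Subgroup.commutator_le.2 fun x hx c _ => by
    rw [← hπ, map_commutatorElement, commutatorElement_eq_one_iff_mul_comm]
    exact (Subgroup.mem_center_iff.1 (hΦ hx).1 (π c)).symm
  have hΦΦ : (frattini ↥(frattini S)).map (frattini S).subtype ≤ N :=
    frattini_frattini_le (fun a ha b _ => hΦS (Subgroup.commutator_mem_commutator ha (Subgroup.mem_top b)))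
      fun a ha => (hΦ ha).2
  unfold sZero
  split_ifs with e2 e3
  · exact sup_le hΦS hΦΦ
  · refine sup_le ((Subgroup.commutator_mono hΦS le_rfl).trans (Subgroup.commutator_le_left N ⊤)) hΦΦ
  · refine sup_le hΦS ((Subgroup.closure_le _).2 ?_)
    rintro _ ⟨x, -, rfl⟩
    rw [pow_one]
    exact h4 e2 e3 x

end Bound

namespace Leg

variable {S : Type u} [Group S] {p : ℕ} (L : Leg S p)

/-- Commutators and powers of the core, and the central elements of `Y`, inside the group. -/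
def pG : Subgroup L.G :=
  Subgroup.closure ({z | ∃ a ∈ L.Q, ∃ b ∈ L.Q, ⁅a, b⁆ = z} ∪ {z | ∃ a ∈ L.Q, a ^ p = z} ∪
    (cenIn L.Y : Set L.G))

/-- The same, read in `S`. -/
def pb : Subgroup S := L.pG.comap L.e

theorem pG_normal : L.pG.Normal := by
  refine ⟨fun x hx g => ?_⟩
  have h : L.pG ≤ L.pG.comap (MulAut.conj g).toMonoidHom := (Subgroup.closure_le _).2 (by
    rintro z ((⟨a, ha, b, hb, rfl⟩ | ⟨a, ha, rfl⟩) | hz)
    · refine Subgroup.subset_closure (Or.inl (Or.inl ⟨g * a * g⁻¹, L.pup.Qn.conj_mem a ha g, g * b * g⁻¹,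
        L.pup.Qn.conj_mem b hb g, ?_⟩))
      exact (map_commutatorElement (MulAut.conj g).toMonoidHom a b).symm
    · exact Subgroup.subset_closure (Or.inl (Or.inr ⟨g * a * g⁻¹, L.pup.Qn.conj_mem a ha g, conj_pow⟩))
    · exact Subgroup.subset_closure (Or.inr (L.cen_Y_normal.conj_mem z hz g)))
  exact h hx

instance pb_normal : L.pb.Normal := haveI := L.pG_normal; inferInstanceAs (L.pG.comap L.e).Normal

theorem comm_mem_pb {a b : S} (ha : a ∈ L.qb) (hb : b ∈ L.qb) : ⁅a, b⁆ ∈ L.pb :=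
  Subgroup.subset_closure (Or.inl (Or.inl ⟨L.e a, ha, L.e b, hb, (map_commutatorElement L.e a b).symm⟩))

theorem pow_mem_pb {a : S} (ha : a ∈ L.qb) : a ^ p ∈ L.pb :=
  Subgroup.subset_closure (Or.inl (Or.inr ⟨L.e a, ha, (map_pow L.e a p).symm⟩))

theorem cb_le_pb : L.cb ≤ L.pb := fun _ hx => Subgroup.subset_closure (Or.inr hx)

theorem pb_center {x : S} (hx : x ∉ L.qb) (hc : ∀ a ∈ L.qb, ∀ b ∈ L.qb, Commute ⁅a, b⁆ x)
    (hp : ∀ a ∈ L.qb, Commute (a ^ p) x) {z : S} (hz : z ∈ Subgroup.center S) (hzp : z ∈ L.pb) : z ∈ L.cb := by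
  refine L.mem_cb_of_commute L.pG_normal hx (fun n hn => ?_) hz hzp
  have h : L.pG ≤ Subgroup.centralizer ({L.e x} : Set L.G) := (Subgroup.closure_le _).2 (by
    rintro z ((⟨a, ha, b, hb, rfl⟩ | ⟨a, ha, rfl⟩) | hz)
    · obtain ⟨a, rfl⟩ := L.Q_le ha
      obtain ⟨b, rfl⟩ := L.Q_le hb
      refine Subgroup.mem_centralizer_singleton_iff.2 ?_
      rw [← map_commutatorElement]
      exact ((hc a ha b hb).map L.e).eq
    · obtain ⟨a, rfl⟩ := L.Q_le ha
      refine Subgroup.mem_centralizer_singleton_iff.2 ?_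
      rw [← map_pow]
      exact ((hp a ha).map L.e).eq
    · exact Subgroup.mem_centralizer_singleton_iff.2 (Subgroup.mem_center_iff.1 hz.2 _).symm)
  exact Subgroup.mem_centralizer_singleton_iff.1 (h hn)

end Leg

end Cfsg.Agent.PushUp
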