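import Cfsg.Agent.Lib.PushUp.Fam.Amalgam

/-!
# Critical paths in the amalgam of a family
-/

set_option autoImplicit false

open scoped commutatorElement

namespace Cfsg.Agent.PushUp.Fam

open Cfsg Cfsg.Agent.PushUp

universe u

variable {S : Type u} [Group S] [Finite S] {p b : ℕ} {B : Leg S p → Prop}

omit [Finite S] in
theorem qb_eq_of_yb_eq {L L' : Leg S p} (h : L'.yb = L.yb) : L'.qb = L.qb :=
  le_antisymm (fun _ hx => L.mem_qb fun _ hy => L'.commute_qb_yb hx (h.symm ▸ hy))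
    (fun _ hx => L'.mem_qb fun _ hy => L.commute_qb_yb hx (h ▸ hy))

omit [Finite S] in
/-- The `Y` and the core of companions are the same at each star. -/
theorem map_twin (f : Amal B) {i j : Ix B} (h : j.1.yb = i.1.yb) :
    (yI B j).map (emb f j) = (yI B i).map (emb f i) ∧ (qI B j).map (emb f j) = (qI B i).map (emb f i) := by
  rw [map_yI, map_yI, map_qI, map_qI, h, qb_eq_of_yb_eq h]
  exact ⟨rfl, rfl⟩

variable (hmin : ShortPaths B b) (hb : 2 ≤ b) {d : ℕ → Dart B} (hc : Crit b d)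
include hmin hb hc

omit [Finite S] in
theorem src_sh_last : (d 0).src (yI B) ≤ sh (d (b - 1)).f := by
  have h1 := hmin (b - 1) (by omega) (by omega) d (hc.chain.mono (by omega))
  have hl := hc.chain (b - 1 - 1) (by omega)
  rw [show b - 1 - 1 + 1 = b - 1 by omega] at hl
  refine h1.trans ?_
  rw [← hl.src_eq qI_normal]
  exact Q_sh _ _

omit [Finite S] in
theorem not_le' : ¬ (d (b - 1)).tgt (yI B) ≤ (d 0).src (qI B) := by
  intro hle
  obtain ⟨x, hx, hxQ⟩ := SetLike.not_le_iff_exists.1 hc.not_le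
  exact Y_not_le_zh (d (b - 1)).f (d (b - 1)).r fun z hz =>
    sep' hz (src_sh_last hmin hb hc hx) hxQ (commute_Q (hle hz) hx).symm

omit [Finite S] in
theorem crit_rev : Crit b (revD b d) := by
  refine ⟨hc.chain.reverse, ?_⟩
  show ¬ (d (b - 1 - 0)).rev.src (yI B) ≤ (d (b - 1 - (b - 1))).rev.tgt (qI B)
  rw [Nat.sub_zero, Nat.sub_self]
  exact not_le' hmin hb hc

theorem tgt_sh_first : (d (b - 1)).tgt (yI B) ≤ sh (d 0).f := by
  have h1 := src_sh_last hmin hb (crit_rev hmin hb hc)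
  change (d (b - 1 - 0)).rev.src (yI B) ≤ sh (d (b - 1 - (b - 1))).rev.f at h1
  rwa [Nat.sub_zero, Nat.sub_self] at h1

theorem exists_w : ∃ w ∈ (d (b - 1)).tgt (yI B), w ∈ sh (d 0).f ∧ w ∉ (d 0).src (qI B) := by
  obtain ⟨w, hw, hwQ⟩ := SetLike.not_le_iff_exists.1 (not_le' hmin hb hc)
  exact ⟨w, hw, tgt_sh_first hmin hb hc hw, hwQ⟩

theorem comm_mem {z w : Amal B} (hz : z ∈ (d 0).src (yI B)) (hw : w ∈ (d (b - 1)).tgt (yI B)) :
    ⁅z, w⁆ ∈ (d 0).src (yI B) ∧ ⁅z, w⁆ ∈ (d (b - 1)).tgt (yI B) ∧ ⁅z, w⁆ ∈ zh (d 0).f := by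
  have hwR : w ∈ (emb (d 0).f (d 0).l).range := sh_range _ _ (tgt_sh_first hmin hb hc hw)
  have hzR : z ∈ (emb (d (b - 1)).f (d (b - 1)).r).range := sh_range _ _ (src_sh_last hmin hb hc hz)
  have h1 : ⁅z, w⁆ ∈ (d 0).src (yI B) := by
    rw [commutatorElement_def, show z * w * z⁻¹ * w⁻¹ = z * (w * z⁻¹ * w⁻¹) by group]
    exact mul_mem hz (conj_mem_map (yI_normal _) (inv_mem hz) hwR)
  have h2 : ⁅z, w⁆ ∈ (d (b - 1)).tgt (yI B) := by
    rw [commutatorElement_def]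
    exact mul_mem (conj_mem_map (yI_normal _) hw hzR) (inv_mem hw)
  obtain ⟨w₀, hw₀, hw₀S, hw₀Q⟩ := exists_w hmin hb hc
  exact ⟨h1, h2, sep' h1 hw₀S hw₀Q (commute_Y hw₀ h2)⟩

theorem exists_nontriv :
    ∃ z ∈ (d 0).src (yI B), ∃ w ∈ (d (b - 1)).tgt (yI B), ⁅z, w⁆ ∉ (d 0).src (cI B) := by
  obtain ⟨w₀, hw₀, hw₀S, hw₀Q⟩ := exists_w hmin hb hc
  by_contra hcon
  simp only [not_exists, not_and, not_not] at hcon
  exact Y_not_le_zh (d 0).f (d 0).l fun z hz => sep hz hw₀S hw₀Q (hcon z hz w₀ hw₀)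

theorem relIndex_ends :
    ((d (b - 1)).r.1.qb).relIndex (((d 0).src (yI B)).comap (bs (d (b - 1)).f)) = (d 0).l.1.q := by
  obtain ⟨w₀, hw₀, hw₀S, hw₀Q⟩ := exists_w hmin hb hc
  have hinf : (d (b - 1)).tgt (qI B) ⊓ (d 0).src (yI B) = zh (d 0).f := by
    refine le_antisymm (fun z hz => sep' hz.2 hw₀S hw₀Q (commute_Q hz.1 hw₀).symm) fun z hz => ?_
    have hzY : z ∈ (d 0).src (yI B) := zh_le _ _ hz
    refine ⟨by_contra fun hzQ => Y_not_le_zh (d (b - 1)).f (d (b - 1)).r fun w hw => ?_, hzY⟩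
    exact sep' hw (src_sh_last hmin hb hc hzY) hzQ (commute_zh hz (tgt_sh_first hmin hb hc hw)).symm
  rw [← Subgroup.relIndex_map_map_of_injective _ _ (bs_injective (d (b - 1)).f),
    Subgroup.map_comap_eq_self (src_sh_last hmin hb hc), ← map_qI, ← Subgroup.inf_relIndex_right]
  show ((d (b - 1)).tgt (qI B) ⊓ (d 0).src (yI B)).relIndex ((d 0).src (yI B)) = (d 0).l.1.q
  rw [hinf, zh, Dart.src, map_yI, Subgroup.relIndex_map_map_of_injective _ _ (bs_injective _), (d 0).l.1.idxY]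

theorem q_le : (d 0).l.1.q ≤ (d (b - 1)).r.1.q := by
  rw [← relIndex_ends hmin hb hc, ← (d (b - 1)).r.1.idx, ← Subgroup.relIndex_top_right]
  exact Subgroup.relIndex_le_of_le_right le_top Subgroup.index_ne_zero_of_finite

theorem q_eq : (d 0).l.1.q = (d (b - 1)).r.1.q := by
  refine le_antisymm (q_le hmin hb hc) ?_
  have h1 := q_le hmin hb (crit_rev hmin hb hc)
  change (d (b - 1 - 0)).r.1.q ≤ (d (b - 1 - (b - 1))).l.1.q at h1
  rwa [Nat.sub_zero, Nat.sub_self] at h1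

theorem exists_split {x : Amal B} (hx : x ∈ sh (d (b - 1)).f) :
    ∃ z ∈ (d 0).src (yI B), ∃ y ∈ (d (b - 1)).tgt (qI B), x = z * y := by
  have h1 := relIndex_ends hmin hb hc
  rw [q_eq hmin hb hc] at h1
  set A := ((d 0).src (yI B)).comap (bs (d (b - 1)).f) with hA
  set L := (d (b - 1)).r.1
  have h2 : A ⊔ L.qb = ⊤ := by
    have h3 := Subgroup.relIndex_mul_index (le_sup_right : L.qb ≤ A ⊔ L.qb)
    rw [Subgroup.relIndex_sup_right, h1, L.idx] at h3
    refine Subgroup.index_eq_one.1 ((Nat.mul_eq_left ?_).1 h3)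
    have := L.two_le
    omega
  obtain ⟨s, rfl⟩ := hx
  obtain ⟨a, ha, y, hy, rfl⟩ := Subgroup.mem_sup_of_normal_right.1 (h2.ge (Subgroup.mem_top s))
  refine ⟨_, ha, bs (d (b - 1)).f y, ?_, map_mul _ _ _⟩
  rw [Dart.tgt, map_qI]
  exact ⟨y, hy, rfl⟩

theorem comm_shift {x w : Amal B} (hx : x ∈ sh (d (b - 1)).f) (hw : w ∈ (d (b - 1)).tgt (yI B)) :
    ⁅x, w⁆ ∈ (d 0).src (yI B) := by
  obtain ⟨z, hz, y, hy, rfl⟩ := exists_split hmin hb hc hx
  have hyw : Commute y w := (commute_Q hy hw).symm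
  rw [show ⁅z * y, w⁆ = ⁅z, w⁆ by
    rw [commutatorElement_def, commutatorElement_def, mul_inv_rev, show z * y * w = z * (y * w) by group,
      hyw.eq]; group]
  exact (comm_mem hmin hb hc hz hw).1

/-- Paths can be extended to the left, turning at the old first vertex. -/
theorem exists_left (htwin : Twin B) (hnn : Nn (d 0).l) {g : (d 0).l.1.G} (hg : g ∉ (d 0).l.1.M) :
    ∃ e : Dart B, e.f = (d 0).f * io (d 0).l g ∧ Nn e.l ∧ Turn e (d 0) ∧ Crit b (consD e d) := by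
  by_contra hcon
  set f1 := (d 0).f * io (d 0).l g with hf1
  have hall : ∀ β : Ix B, (yI B β).map (emb f1 β) ≤ (d (b - 2)).tgt (qI B) := by
    intro β
    obtain ⟨β', hβ', hnn'⟩ := htwin β
    rw [← (map_twin f1 hβ').1]
    by_contra hle
    have hT : Turn (⟨f1, β', (d 0).l⟩ : Dart B) (d 0) :=
      ⟨rfl, g⁻¹, fun hc => hg ((Subgroup.inv_mem_iff _).1 hc),
        show (d 0).f = f1 * io (d 0).l g⁻¹ by rw [hf1, map_inv, mul_inv_cancel_right]⟩
    refine hcon ⟨⟨f1, β', (d 0).l⟩, rfl, hnn', hT, ⟨fun i hi => ?_, ?_⟩⟩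
    · cases i with
      | zero => exact hT.link
      | succ i => exact hc.chain i (by omega)
    · show ¬ (yI B β').map (emb f1 β') ≤ (consD _ d (b - 1)).tgt (qI B)
      rw [show b - 1 = (b - 2) + 1 by omega]
      exact hle
  set U := (uB B).map (bs f1) with hU
  have hYU : ∀ β : Ix B, (yI B β).map (emb f1 β) ≤ U := fun β => by
    rw [map_yI]; exact Subgroup.map_mono (le_iSup (fun i : Ix B => i.1.yb) β)
  have hU2 : U ≤ sh (d (b - 1)).f := by
    rw [hU, uB, Subgroup.map_iSup]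
    refine (iSup_le fun β => map_yI f1 β ▸ hall β).trans ?_
    have hl := hc.chain (b - 2) (by omega)
    rw [show b - 2 + 1 = b - 1 by omega] at hl
    rw [← hl.src_eq qI_normal]
    exact Q_sh _ _
  have hYU0 : (d 0).src (yI B) ≤ U := by
    rw [Dart.src, ← map_emb_mul (d 0).f (d 0).l g (yI_normal (d 0).l)]
    exact hYU (d 0).l
  obtain ⟨w, hw, hwS, hwQ⟩ := exists_w hmin hb hc
  have hcomm : ∀ v ∈ (d (b - 1)).tgt (yI B), ∀ x ∈ U, v * x * v⁻¹ ∈ U := by
    intro v hv x hx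
    rw [show v * x * v⁻¹ = ⁅x, v⁆⁻¹ * x by simp only [commutatorElement_def]; group]
    exact mul_mem (inv_mem (hYU0 (comm_shift hmin hb hc (hU2 hx) hv))) hx
  have hwN : w ∈ Subgroup.normalizer (U : Set (Amal B)) := Subgroup.mem_normalizer_iff.2 fun x =>
    ⟨hcomm w hw x, fun hx => by
      have := hcomm w⁻¹ (inv_mem hw) _ hx
      simpa [mul_assoc] using this⟩
  have hUn : (uB B).Normal := Subgroup.iSup_normal fun i : Ix B => i.1.yb
  have hSN : sh f1 ≤ Subgroup.normalizer (U : Set (Amal B)) := by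
    rintro _ ⟨s, rfl⟩
    refine Subgroup.le_normalizer_map (bs f1) ⟨s, ?_, rfl⟩
    rw [Subgroup.normalizer_eq_top]
    trivial
  have hgen : (emb f1 (d 0).l).range ≤ Subgroup.normalizer (U : Set (Amal B)) := by
    refine gen (f := f1) (i := (d 0).l) (g := g⁻¹) (fun hc' => hg ((Subgroup.inv_mem_iff _).1 hc'))
      (w := w) ?_ ?_ hSN hwN
    · rwa [hf1, map_inv, mul_inv_cancel_right]
    · rwa [hf1, map_emb_mul _ _ _ (qI_normal _)]
  refine hnn ⟨fun x hx y => ?_⟩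
  have hxU : emb f1 (d 0).l x ∈ U := by
    obtain ⟨s, hs, rfl⟩ := hx
    rw [emb_e]
    exact ⟨s, hs, rfl⟩
  have h1 := (Subgroup.mem_normalizer_iff.1 (hgen ⟨y, rfl⟩) _).1 hxU
  rw [← map_inv, ← map_mul, ← map_mul] at h1
  obtain ⟨s, hs, hse⟩ := h1
  rw [← emb_e f1 (d 0).l s] at hse
  exact ⟨s, hs, emb_injective f1 (d 0).l hse⟩

/-- Commutators at a turn are central at the turning vertex. -/
theorem left_comm {e : Dart B} (he : Turn e (d 0)) {x t : Amal B} (hx : x ∈ e.src (yI B))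
    (ht : t ∈ (d (b - 2)).tgt (yI B)) : ⁅x, t⁆ ∈ (d 0).src (cI B) := by
  have hidx : b - 1 = (b - 2) + 1 := by omega
  have hch : Chain b (consD e d) := fun i hi => by
    cases i with
    | zero => exact he.link
    | succ i => exact hc.chain i (by omega)
  by_cases hle : e.src (yI B) ≤ (d (b - 2)).tgt (qI B)
  · rw [commutatorElement_eq_one_iff_commute.2 (commute_Q (hle hx) ht).symm]
    exact one_mem _
  have hc' : Crit b (consD e d) := ⟨hch, by rw [hidx]; exact hle⟩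
  obtain ⟨-, h2, h3⟩ := comm_mem hmin hb hc' (z := x) (w := t) hx (by rw [hidx]; exact ht)
  rw [hidx] at h2
  obtain ⟨-, g, hg, h5⟩ := he.rev
  change e.f = (d 0).f * io (d 0).l g at h5
  change ⁅x, t⁆ ∈ zh e.f at h3
  rw [h5] at h3
  have hzY : ⁅x, t⁆ ∈ (d 0).src (yI B) := by
    rw [Dart.src, ← map_emb_mul (d 0).f (d 0).l g (yI_normal _)]
    exact zh_le _ _ h3
  obtain ⟨w, hw, hwS, hwQ⟩ := exists_w hmin hb hc
  have hl := hc.chain (b - 2) (by omega)
  rw [show b - 2 + 1 = b - 1 by omega] at hl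
  have h6 : ⁅x, t⁆ ∈ (d (b - 1)).src (yI B) := by rw [hl.src_eq yI_normal]; exact h2
  have h7 := hmin 1 le_rfl (by omega) (fun _ => d (b - 1)) (fun i hi => absurd hi (by omega))
  exact cap hg (sep' hzY hwS hwQ (commute_Q (h7 h6) hw).symm) h3

end Cfsg.Agent.PushUp.Fam
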