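import Cfsg.Agent.Lib.PushUp.Fam.Pairs
import Cfsg.Agent.Lib.PushUp.CentrallyLarge

/-!
# A group normalizing the images of all `Y`
-/

set_option autoImplicit false

open scoped commutatorElement

namespace Cfsg.Agent.PushUp

open Cfsg

universe u

namespace Leg

variable {S : Type u} [Group S] [Finite S] {p : ℕ}

omit [Finite S] in
/-- The automorphism of `S` given by an element normalizing it. -/
theorem exists_aut (L : Leg S p) {x : L.G} (hx : x ∈ Subgroup.normalizer (L.e.range : Set L.G)) :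
    ∃ σ : MulAut S, ∀ s, L.e (σ s) = x * L.e s * x⁻¹ := by
  choose f hf using fun s : S => (Subgroup.mem_normalizer_iff.1 hx (L.e s)).1 (L.e_mem s)
  choose f' hf' using fun s : S => (Subgroup.mem_normalizer_iff.1 (inv_mem hx) (L.e s)).1 (L.e_mem s)
  refine ⟨⟨⟨f, f', fun s => L.inj ?_, fun s => L.inj ?_⟩, fun a b => L.inj ?_⟩, hf⟩
  · rw [hf', hf]; group
  · rw [hf, hf']; group
  · rw [hf, map_mul, map_mul, hf, hf]; group

/-- In odd characteristic `[Y, S]` meets every characteristic subgroup of `Z(S)` which is not central. -/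
theorem inf_comm_ne_bot (L : Leg S p) (hp : Odd p) {T : Subgroup S} (hT : T.Characteristic)
    (hTz : T ≤ Subgroup.center S) (hne : ¬ T ≤ L.cb) : T ⊓ ⁅L.yb, (⊤ : Subgroup S)⁆ ≠ ⊥ := by
  obtain ⟨x, hx, hxc⟩ := SetLike.not_le_iff_exists.1 hne
  obtain ⟨z₀, hz₀⟩ := L.coord.surj ⟨!![(-1 : L.F), 0; 0, -1], by simp [Matrix.det_fin_two]⟩
  obtain ⟨z, hz, hzR⟩ := L.hnorm z₀ ((L.coord.mem_M _).2 (by simp [hz₀]))
  obtain ⟨σ, hσ⟩ := L.exists_aut hz
  have hxY : L.e x ∈ L.Y := L.center_le_yb (hTz hx)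
  have hσx : σ x * x⁻¹ ∈ T := mul_mem (by
    rw [← Subgroup.characteristic_iff_comap_eq.1 hT σ] at hx
    exact hx) (inv_mem hx)
  obtain ⟨y, hy, s, hys⟩ := L.cover (hTz hx)
  have hσy : σ y ∈ L.yb := show L.e (σ y) ∈ L.Y from hσ y ▸ L.pup.Yn.conj_mem _ hy z
  have hσc : σ (x * ⁅y, s⁆⁻¹) = x * ⁅y, s⁆⁻¹ := L.inj (by
    rw [hσ, Subgroup.mem_center_iff.1 (L.cb_central hys) z, mul_inv_cancel_right])
  have he : σ x * x⁻¹ = ⁅σ y, σ s⁆ * ⁅y, s⁆⁻¹ := by
    have h1 := hσc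
    rw [map_mul, map_inv, map_commutatorElement] at h1
    have hc : Commute ⁅σ y, σ s⁆ (x * ⁅y, s⁆⁻¹) :=
      (Subgroup.mem_center_iff.1 (L.cb_le_center hys) _)
    calc σ x * x⁻¹ = (σ x * ⁅σ y, σ s⁆⁻¹) * ⁅σ y, σ s⁆ * x⁻¹ := by group
      _ = (x * ⁅y, s⁆⁻¹) * ⁅σ y, σ s⁆ * x⁻¹ := by rw [h1]
      _ = ⁅σ y, σ s⁆ * (x * ⁅y, s⁆⁻¹) * x⁻¹ := by rw [hc.eq]
      _ = ⁅σ y, σ s⁆ * (⁅y, s⁆⁻¹) := by
        have h2 : Commute ⁅y, s⁆⁻¹ x :=
          (Subgroup.mem_center_iff.1 (Subgroup.inv_mem _ (L.comm_yb_center hy s)) x).symm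
        rw [h2.symm.eq]; group
  intro hbot
  have h1 : σ x * x⁻¹ ∈ T ⊓ ⁅L.yb, (⊤ : Subgroup S)⁆ := ⟨hσx, he ▸ Subgroup.mul_mem _
    (Subgroup.commutator_mem_commutator hσy (Subgroup.mem_top _))
    (Subgroup.inv_mem _ (Subgroup.commutator_mem_commutator hy (Subgroup.mem_top _)))⟩
  rw [hbot, Subgroup.mem_bot, mul_inv_eq_one] at h1
  have h2 := hσ x
  rw [h1] at h2
  have h3 := L.sect.conj z _ hxY
  rw [← h2, hzR, hz₀] at h3
  refine hxc ((L.sect.zero _ hxY).1 (funext fun i => ?_))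
  have h4 := congrFun h3 i
  have h2F : (2 : L.F) ≠ 0 := fun h0 => by
    obtain ⟨m, hm⟩ := hp
    have h5 := L.char
    have h6 : ((p : ℕ) : L.F) = ((2 * m + 1 : ℕ) : L.F) := congrArg (Nat.cast (R := L.F)) hm
    rw [h5, Nat.cast_add, Nat.cast_mul, Nat.cast_ofNat, h0, zero_mul, zero_add, Nat.cast_one] at h6
    exact one_ne_zero h6.symm
  have h5 : L.cY (L.e x) i = -L.cY (L.e x) i := by
    refine h4.trans ?_
    fin_cases i <;> simp [Matrix.mulVec, dotProduct, Fin.sum_univ_two]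
  exact (mul_eq_zero.1 (show (2 : L.F) * L.cY (L.e x) i = 0 by linear_combination h5)).resolve_left h2F

/-- A group normalizing `U` sees only central commutators in the `Y` of the others. -/
theorem flat_comm (L H : Leg S p) {U : Subgroup S} (hflat : (U.map L.e).Normal) (hUQ : U ≤ L.qb)
    (hU2 : ∀ v ∈ U, ∀ s : S, ⁅v, s⁆ ∈ Subgroup.center S) (hLU : L.yb ≤ U) (hHU : H.yb ≤ U)
    (hLH : L.yb ≤ H.qb) (hne : H.yb ≠ L.yb) {y : S} (hy : y ∈ H.yb) (s : S) : ⁅y, s⁆ ∈ L.cb := by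
  have hmul : ∀ u a w : S, ⁅u, a * w⁆ = ⁅u, a⁆ * (a * ⁅u, w⁆ * a⁻¹) := fun u a w => by
    simp only [commutatorElement_def]; group
  -- the core sees only central commutators
  have hUQc : ∀ v ∈ U, ∀ w ∈ L.qb, ⁅v, w⁆ ∈ L.cb := by
    intro v hv w hw
    have hz := hU2 v hv w
    obtain ⟨v', hv', hve⟩ := hflat.conj_mem _ ⟨v, hv, rfl⟩ L.g0⁻¹
    obtain ⟨w', hwe⟩ := L.Q_le (L.pup.Qn.conj_mem _ hw L.g0⁻¹)
    refine L.pup.mem_cenIn L.hg (L.e_mem_zS.2 hz) ?_
    have e : L.g0⁻¹ * L.e ⁅v, w⁆ * L.g0 = L.e ⁅v', w'⁆ := by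
      rw [map_commutatorElement, map_commutatorElement, hve, hwe]
      simp only [commutatorElement_def]; group
    rw [e]
    exact L.e_mem_zS.2 (hU2 v' hv' w')
  have hHL : H.yb ≤ L.qb := hHU.trans hUQ
  by_cases hsup : H.qb ⊔ L.qb = ⊤
  · haveI := L.qb_normal
    obtain ⟨x, hx, w, hw, rfl⟩ := Subgroup.mem_sup_of_normal_right.1 (hsup.ge (Subgroup.mem_top s))
    rw [hmul, commutatorElement_eq_one_iff_commute.2 (H.commute_qb_yb hx hy), one_mul]
    exact L.cb_normal.conj_mem _ (hUQc y (hHU hy) w hw) x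
  -- the two cores differ
  obtain ⟨x, hxH, hxL⟩ : ∃ x ∈ H.qb, x ∉ L.qb := by
    by_contra hcon
    simp only [not_exists, not_and, not_not] at hcon
    have hLY : L.yb ≤ H.yb := fun v hv =>
      H.mem_yb (hLH hv) fun w hw => (L.commute_qb_yb (hcon w hw) hv).symm
    have hQ : L.qb ≤ H.qb := fun w hw => by
      by_contra hwH
      obtain ⟨y0, hy0, hy0z⟩ := L.exists_not_center
      exact hy0z (H.cent' hwH (hLY hy0) (L.commute_qb_yb hw hy0))
    refine hne (le_antisymm (fun v hv => L.mem_yb (hHL hv) fun w hw => (H.commute_qb_yb (hQ hw) hv).symm) hLY)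
  obtain ⟨A, hAc, hAmax, hAsup⟩ := L.exA
  haveI : (L.Q.comap L.e).Normal := L.qb_normal
  have hA : ∀ a ∈ A, ∀ b ∈ A, Commute a b := fun a ha b hb => congrArg Subtype.val (hAc.1.1 ⟨a, ha⟩ ⟨b, hb⟩)
  by_cases hAH : A ≤ H.qb
  · obtain ⟨a, ha, w, hw, rfl⟩ := Subgroup.mem_sup_of_normal_right.1 (hAsup.ge (Subgroup.mem_top s))
    rw [hmul, commutatorElement_eq_one_iff_commute.2 (H.commute_qb_yb (hAH ha) hy), one_mul]
    exact L.cb_normal.conj_mem _ (hUQc y (hHU hy) w hw) a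
  exfalso
  obtain ⟨a₀, ha₀, ha₀H⟩ := SetLike.not_le_iff_exists.1 hAH
  set A0 := L.yb ⊔ H.yb with hA0
  -- what the maximal abelian subgroup has in `A0` is central
  have hinf : A0 ⊓ A ≤ Subgroup.center S := by
    rintro a ⟨ha0, haA⟩
    obtain ⟨v, hv, v', hv', rfl⟩ := Subgroup.mem_sup_of_normal_left.1 ha0
    have hU : v * v' ∈ U := mul_mem (hLU hv) (hHU hv')
    have h1 : ⁅v * v', x⁆ ∈ L.cb := by
      obtain ⟨b, hb, w, hw, e⟩ := Subgroup.mem_sup_of_normal_right.1 (hAsup.ge (Subgroup.mem_top x))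
      rw [← e, hmul, commutatorElement_eq_one_iff_commute.2 (hA _ haA b hb), one_mul]
      exact L.cb_normal.conj_mem _ (hUQc _ hU w hw) b
    have h2 : ⁅v, x⁆ = ⁅v * v', x⁆ := by
      rw [show ⁅v * v', x⁆ = v * ⁅v', x⁆ * v⁻¹ * ⁅v, x⁆ by simp only [commutatorElement_def]; group,
        commutatorElement_eq_one_iff_commute.2 (H.commute_qb_yb hxH hv'), mul_one, mul_inv_cancel, one_mul]
    have hvz := L.cent hxL hv (h2.symm ▸ h1)
    exact H.cent' ha₀H (mul_mem (H.center_le_yb hvz) hv') (hA _ haA a₀ ha₀)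
  set I := L.qb ⊓ H.qb
  set D := A ⊓ I
  have hcomm : ∀ a ∈ A0 ⊔ D, ∀ b ∈ A0 ⊔ D, Commute a b := by
    have h1 : L.yb ⊔ H.yb ≤ Subgroup.centralizer ((A0 ⊔ D : Subgroup S) : Set S) := by
      refine sup_le ?_ ?_ <;> refine Subgroup.le_centralizer_iff.1 (sup_le (sup_le ?_ ?_) ?_) <;>
        intro a ha <;> refine Subgroup.mem_centralizer_iff.2 fun b hb => ?_
      · exact (L.commute_yb hb ha).eq
      · exact (L.commute_qb_yb (hHL ha) hb).eq
      · exact (L.commute_qb_yb ha.2.1 hb).eq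
      · exact (L.commute_qb_yb (hHL hb) ha).symm.eq
      · exact (H.commute_yb hb ha).eq
      · exact (H.commute_qb_yb ha.2.2 hb).eq
    have h2 : D ≤ Subgroup.centralizer ((A0 ⊔ D : Subgroup S) : Set S) :=
      Subgroup.le_centralizer_iff.1 (sup_le (Subgroup.le_centralizer_iff.1
        (fun d hd => Subgroup.mem_centralizer_iff.2 fun b hb =>
          ((Subgroup.mem_centralizer_iff.1 (h1 hb) d (Subgroup.mem_sup_right hd))).symm))
        fun d hd => Subgroup.mem_centralizer_iff.2 fun b hb => (hA b hb.1 d hd.1).eq)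
    exact fun a ha b hb => (Subgroup.mem_centralizer_iff.1 (sup_le h1 h2 ha) b hb).symm
  haveI hc0 : IsMulCommutative (A0 ⊔ D : Subgroup S) :=
    ⟨⟨fun a b => Subtype.ext (hcomm a a.2 b b.2).eq⟩⟩
  have hB := hAmax _ hc0
  haveI : A0.Normal := Subgroup.sup_normal L.yb H.yb
  rw [card_sup_normal' A0 D] at hB
  -- indices
  have h5 : L.q * H.q ≤ D.relIndex A0 := by
    have e1 : (Subgroup.center S).relIndex A0 = L.q * H.q := by
      rw [← Subgroup.relIndex_mul_relIndex _ _ _ L.center_le_yb (le_sup_left : L.yb ≤ A0), L.idxY]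
      congr 1
      show L.yb.relIndex (L.yb ⊔ H.yb) = H.q
      rw [sup_comm, Subgroup.relIndex_sup_right, ← H.idxY, ← Subgroup.inf_relIndex_right L.yb]
      congr 1
      exact le_antisymm (fun v hv => L.cent' hxL hv.1 (H.commute_qb_yb hxH hv.2))
        (le_inf L.center_le_yb H.center_le_yb)
    rw [← e1, ← Subgroup.inf_relIndex_right D A0]
    exact Subgroup.relIndex_le_of_le_left (fun v hv => hinf ⟨hv.2, hv.1.1⟩) (relIndex_ne_zero' _ _)
  have eA : I.relIndex A * Nat.card D = Nat.card A := by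
    rw [← Subgroup.inf_relIndex_right I A, inf_comm I A]
    exact LocalEven.DispCount.relIndex_mul_card inf_le_left
  have h6 : 2 * I.index ≤ L.q * H.q := by
    have e2 : H.qb.relIndex L.qb * L.q = I.index := by
      rw [← L.idx, ← Subgroup.inf_relIndex_left L.qb H.qb]
      exact Subgroup.relIndex_mul_index inf_le_left
    have e3 : H.qb.relIndex L.qb * (H.qb ⊔ L.qb).index = H.q := by
      rw [← H.idx, ← Subgroup.relIndex_sup_right L.qb H.qb, sup_comm H.qb L.qb]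
      exact Subgroup.relIndex_mul_index le_sup_right
    have h7 : 2 ≤ (H.qb ⊔ L.qb).index := by
      have h8 := Nat.pos_of_ne_zero (Subgroup.index_ne_zero_of_finite (H := H.qb ⊔ L.qb))
      by_contra hlt
      exact hsup (Subgroup.index_eq_one.1 (by omega))
    rw [← e2, ← e3]
    calc 2 * (H.qb.relIndex L.qb * L.q) ≤ (H.qb ⊔ L.qb).index * (H.qb.relIndex L.qb * L.q) :=
          Nat.mul_le_mul_right _ h7
      _ = _ := by ring
  have h9 : I.relIndex A ≤ I.index := by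
    rw [← Subgroup.relIndex_top_right]
    exact Subgroup.relIndex_le_of_le_right le_top Subgroup.index_ne_zero_of_finite
  have h10 : L.q * H.q * Nat.card D ≤ I.index * Nat.card D :=
    ((Nat.mul_le_mul_right _ h5).trans hB).trans (eA ▸ Nat.mul_le_mul_right _ h9)
  have h11 := Nat.le_of_mul_le_mul_right h10 Nat.card_pos
  have h12 : 0 < L.q * H.q := Nat.mul_pos (by have := L.two_le; omega) (by have := H.two_le; omega)
  omega

end Leg

end Cfsg.Agent.PushUp
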