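import Cfsg.Agent.Lib.PushUp.YSection
import Cfsg.Agent.Lib.PushUp.ClassGen
import Cfsg.Agent.Lib.PushUp.BorelTorus
import Cfsg.Agent.Lib.Fusion.ZJApply

/-!
# A group over a fixed `p`-group with noncentral `Z(S)`
-/

set_option autoImplicit false

open scoped commutatorElement

namespace Cfsg.Agent.PushUp

open Cfsg Cfsg.Agent.Small

universe u

variable (S : Type u) [Group S] (p : ℕ)

/-- An embedding of `S` as the Sylow subgroup in a pushing up situation with noncentral `Z(S)`. -/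
structure Leg : Type (u + 1) where
  G : Type u
  [grp : Group G]
  [fin : Finite G]
  e : S →* G
  inj : Function.Injective e
  Q : Subgroup G
  Y : Subgroup G
  M : Subgroup G
  K : Subgroup G
  F : Type
  [fld : Field F]
  [fty : Fintype F]
  g0 : G
  s₁ : G
  RY : G →* Matrix.SpecialLinearGroup (Fin 2) F
  cY : G → Fin 2 → F
  char : (p : F) = 0
  pup : PUp0 e.range Q Y M p (Fintype.card F)
  hg : g0 ∉ M
  hs₁ : s₁ ∈ e.range
  hs₁Q : s₁ ∉ Q
  coord : Coord e.range Q M g0 s₁ RY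
  sect : NatSect Y (cenIn Y) RY cY
  hKn : K.Normal
  hKM : K ≤ M
  htor : ∀ x ∈ M, g0⁻¹ * x * g0 ∈ M → ∀ y ∈ M, g0⁻¹ * y * g0 ∈ M → ⁅x, y⁆ ∈ K
  hnorm : ∀ x ∈ M, ∃ y ∈ Subgroup.normalizer (e.range : Set G), RY y = RY x
  Z_Q : ∀ x ∈ Q, (∀ w ∈ Q, Commute w x) → x ∈ Y
  exA : ∃ A : Subgroup S, IsMulCommutative A ∧
    (∀ B : Subgroup S, IsMulCommutative B → Nat.card B ≤ Nat.card A) ∧ A ⊔ Q.comap e = ⊤

attribute [instance] Leg.grp Leg.fin Leg.fld Leg.fty

namespace Leg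

variable {S p} [Finite S] (L : Leg S p)

/-- The order of the Sylow subgroup over the core. -/
def q : ℕ := Fintype.card L.F

/-- The core, read in `S`. -/
def qb : Subgroup S := L.Q.comap L.e

/-- The normal closure of `Z(S)`, read in `S`. -/
def yb : Subgroup S := L.Y.comap L.e

/-- Its central elements, read in `S`. -/
def cb : Subgroup S := (cenIn L.Y).comap L.e

omit [Finite S]

theorem e_mem (s : S) : L.e s ∈ L.e.range := ⟨s, rfl⟩

theorem Q_le : L.Q ≤ L.e.range := L.pup.Q_le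

theorem Y_le : L.Y ≤ L.e.range := L.pup.Y_le.trans L.pup.Q_le

theorem map_qb : L.qb.map L.e = L.Q := Subgroup.map_comap_eq_self L.Q_le

theorem map_yb : L.yb.map L.e = L.Y := Subgroup.map_comap_eq_self L.Y_le

theorem cen_Y_normal : (cenIn L.Y).Normal :=
  ⟨fun x hx g => by rwa [Subgroup.mem_center_iff.1 hx.2 g, mul_inv_cancel_right]⟩

instance qb_normal : L.qb.Normal := haveI := L.pup.Qn; inferInstanceAs (L.Q.comap L.e).Normal

instance yb_normal : L.yb.Normal := haveI := L.pup.Yn; inferInstanceAs (L.Y.comap L.e).Normal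

instance cb_normal : L.cb.Normal := haveI := L.cen_Y_normal; inferInstanceAs ((cenIn L.Y).comap L.e).Normal

theorem e_mem_zS {z : S} : L.e z ∈ zS L.e.range ↔ z ∈ Subgroup.center S := by
  rw [Subgroup.mem_center_iff]
  constructor
  · intro hz x
    exact L.inj (by rw [map_mul, map_mul]; exact Subgroup.mem_centralizer_iff.1 hz.2 _ (L.e_mem x))
  · refine fun h => ⟨L.e_mem z, Subgroup.mem_centralizer_iff.2 ?_⟩
    rintro _ ⟨x, rfl⟩
    rw [← map_mul, ← map_mul, h x]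

theorem map_center : (Subgroup.center S).map L.e = zS L.e.range := by
  refine le_antisymm ?_ fun x hx => ?_
  · rintro _ ⟨z, hz, rfl⟩
    exact L.e_mem_zS.2 hz
  · obtain ⟨z, rfl⟩ := hx.1
    exact ⟨z, L.e_mem_zS.1 hx, rfl⟩

theorem center_le_yb : Subgroup.center S ≤ L.yb := fun _ hz => L.pup.Z_le (L.e_mem_zS.2 hz)

theorem yb_le_qb : L.yb ≤ L.qb := fun _ hy => L.pup.Y_le hy

theorem center_le_qb : Subgroup.center S ≤ L.qb := L.center_le_yb.trans L.yb_le_qb

theorem cb_le_center : L.cb ≤ Subgroup.center S := fun _ hc => L.e_mem_zS.1 (L.pup.cenIn_le hc)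

theorem mem_cb {x : S} (hx : x ∈ L.yb) (h : L.e x ∈ Subgroup.center L.G) : x ∈ L.cb := ⟨hx, h⟩

theorem cb_central {x : S} (hx : x ∈ L.cb) : L.e x ∈ Subgroup.center L.G := hx.2

theorem commute_qb_yb {w y : S} (hw : w ∈ L.qb) (hy : y ∈ L.yb) : Commute y w :=
  L.inj (by rw [map_mul, map_mul]; exact Subgroup.mem_centralizer_iff.1 (L.pup.Q_cent hw) _ hy)

theorem commute_yb {a b : S} (ha : a ∈ L.yb) (hb : b ∈ L.yb) : Commute a b :=
  L.commute_qb_yb (L.yb_le_qb hb) ha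

theorem yb_pow {y : S} (hy : y ∈ L.yb) : y ^ p = 1 :=
  L.inj (by rw [map_pow, map_one]; exact L.pup.Y_exp _ hy)

theorem idx : L.qb.index = L.q := (Subgroup.index_comap L.Q L.e).trans L.pup.idxS

theorem idxY : (Subgroup.center S).relIndex L.yb = L.q := by
  rw [← Subgroup.relIndex_map_map_of_injective _ _ L.inj, L.map_center, L.map_yb]
  exact L.pup.idxY

theorem two_le : 2 ≤ L.q := L.pup.two_le

theorem exists_not_qb : ∃ s : S, s ∉ L.qb := by
  by_contra hcon
  simp only [not_exists, not_not] at hcon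
  have h := L.idx
  rw [Subgroup.index_eq_one.2 (eq_top_iff.2 fun x _ => hcon x)] at h
  have := L.two_le
  omega

theorem exists_not_center : ∃ y ∈ L.yb, y ∉ Subgroup.center S := by
  by_contra hcon
  simp only [not_exists, not_and, not_not] at hcon
  have h := L.idxY
  rw [Subgroup.relIndex_eq_one.2 hcon] at h
  have := L.two_le
  omega

theorem cent {s y : S} (hs : s ∉ L.qb) (hy : y ∈ L.yb) (h : ⁅y, s⁆ ∈ L.cb) : y ∈ Subgroup.center S :=
  L.e_mem_zS.1 (L.pup.cent _ (L.e_mem s) hs _ hy (by rw [← map_commutatorElement]; exact h))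

theorem cent' {s y : S} (hs : s ∉ L.qb) (hy : y ∈ L.yb) (h : Commute y s) : y ∈ Subgroup.center S :=
  L.cent hs hy (by rw [commutatorElement_eq_one_iff_commute.2 h]; exact one_mem _)

/-- The core is the centralizer of `Y`. -/
theorem mem_qb {x : S} (h : ∀ y ∈ L.yb, Commute y x) : x ∈ L.qb := by
  by_contra hx
  obtain ⟨y, hy, hyz⟩ := L.exists_not_center
  exact hyz (L.cent' hx hy (h y hy))

theorem mem_yb {x : S} (hx : x ∈ L.qb) (h : ∀ w ∈ L.qb, Commute w x) : x ∈ L.yb := by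
  refine L.Z_Q _ hx fun w hw => ?_
  obtain ⟨v, rfl⟩ := L.Q_le hw
  exact (h v hw).map L.e

theorem comm_yb_center {y : S} (hy : y ∈ L.yb) (s : S) : ⁅y, s⁆ ∈ Subgroup.center S := by
  refine L.e_mem_zS.1 ?_
  rw [map_commutatorElement]
  exact NatSect.center_of_coord L.pup L.coord L.sect L.hs₁ L.hs₁Q _ hy _ (L.e_mem s)

theorem comm_mem_qb (s t : S) : ⁅s, t⁆ ∈ L.qb := by
  obtain ⟨a, ha⟩ := L.coord.upper _ (L.e_mem s)
  obtain ⟨b, hb⟩ := L.coord.upper _ (L.e_mem t)
  refine L.coord.ker_S _ (L.e_mem _) ?_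
  rw [map_commutatorElement, map_commutatorElement, commutatorElement_eq_one_iff_mul_comm, ha, hb, NatSL2.u_mul,
    NatSL2.u_mul, add_comm]

theorem upper_pow {s : S} {a : L.F} (h : L.RY (L.e s) = NatSL2.u a) (k : ℕ) :
    L.RY (L.e (s ^ k)) = NatSL2.u ((k : L.F) * a) := by
  induction k with
  | zero =>
    rw [pow_zero, map_one, map_one, Nat.cast_zero, zero_mul]
    ext i j; fin_cases i <;> fin_cases j <;> simp [NatSL2.u]
  | succ k ih => rw [pow_succ, map_mul, map_mul, ih, h, NatSL2.u_mul, Nat.cast_succ, add_mul, one_mul]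

theorem pow_mem_qb (s : S) : s ^ p ∈ L.qb := by
  obtain ⟨a, ha⟩ := L.coord.upper _ (L.e_mem s)
  refine L.coord.ker_S _ (L.e_mem _) ?_
  rw [L.upper_pow ha, L.char, zero_mul]
  ext i j; fin_cases i <;> fin_cases j <;> simp [NatSL2.u]

theorem gen {g : L.G} (hg : g ∉ L.M) (H : Subgroup L.G) (hS : L.e.range ≤ H)
    (hc : ∀ s ∈ L.e.range, g * s * g⁻¹ ∈ H) : H = ⊤ :=
  L.pup.top H hS fun hle => L.pup.conj_S_not_le hg (by
    rintro _ ⟨s, hs, rfl⟩
    exact hle (hc s hs))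

theorem inf_le_Q {N : Subgroup L.G} (hN : N.Normal) (hNM : N ≤ L.M) : L.e.range ⊓ N ≤ L.Q := by
  rintro x ⟨hx, hxN⟩
  have h1 := L.pup.ti L.g0 L.hg _ (hNM (hN.conj_mem x hxN L.g0)) (by simpa [mul_assoc] using hx)
  simpa [mul_assoc] using L.pup.Qn.conj_mem _ h1 L.g0⁻¹

/-- An element of `Z(S)` centralized by a normal subgroup which leaves the core is central. -/
theorem mem_cb_of_centralized {N : Subgroup L.G} (hN : N.Normal) {s : S} (hs : s ∉ L.qb) (hsN : L.e s ∈ N)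
    {z : S} (hz : z ∈ Subgroup.center S) (hc : ∀ n ∈ N, Commute n (L.e z)) : z ∈ L.cb := by
  have h1 : Subgroup.centralizer ({L.e z} : Set L.G) = ⊤ := by
    refine L.pup.top _ (fun x hx => Subgroup.mem_centralizer_singleton_iff.2
      (Subgroup.mem_centralizer_iff.1 (L.e_mem_zS.2 hz).2 x hx)) fun hle => ?_
    exact hs (L.inf_le_Q hN (fun n hn => hle (Subgroup.mem_centralizer_singleton_iff.2 (hc n hn).eq))
      ⟨L.e_mem s, hsN⟩)
  refine L.mem_cb (L.center_le_yb hz) (Subgroup.mem_center_iff.2 fun x => ?_)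
  exact Subgroup.mem_centralizer_singleton_iff.1 (h1.ge (Subgroup.mem_top x))

/-- What a normal subgroup of the core, centralized from outside the core, has in `Z(S)` is central. -/
theorem mem_cb_of_commute {N : Subgroup L.G} (hN : N.Normal) {s : S} (hs : s ∉ L.qb)
    (hsN : ∀ n ∈ N, Commute n (L.e s)) {z : S} (hz : z ∈ Subgroup.center S) (hzN : L.e z ∈ N) : z ∈ L.cb := by
  haveI := hN
  exact L.mem_cb_of_centralized (N := Subgroup.centralizer (N : Set L.G)) inferInstance hs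
    (Subgroup.mem_centralizer_iff.2 fun n hn => (hsN n hn).eq) hz
    fun c hc => (Subgroup.mem_centralizer_iff.1 hc _ hzN).symm

theorem second_zero {x : L.G} (hx : x ∈ zS L.e.range) : L.cY x 1 = 0 := by
  have hxY := L.pup.Z_le hx
  have h1 := L.sect.conj L.s₁ x hxY
  rw [Subgroup.mem_centralizer_iff.1 hx.2 _ L.hs₁, mul_inv_cancel_right, L.coord.one] at h1
  have h2 := congrFun h1 0
  rw [(u_mulVec 1 _).1, one_mul] at h2
  linear_combination (norm := ring_nf) -h2

/-- `Z(S)` is covered by `[Y, S]` and the centre. -/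
theorem cover {x : S} (hx : x ∈ Subgroup.center S) : ∃ y ∈ L.yb, ∃ s : S, x * ⁅y, s⁆⁻¹ ∈ L.cb := by
  obtain ⟨w, hw, hcw⟩ := L.sect.onto ![0, 1]
  obtain ⟨y, rfl⟩ := L.Y_le hw
  obtain ⟨_, ⟨s, rfl⟩, hs⟩ := L.coord.exists_upper (-L.cY (L.e x) 0)
  refine ⟨y, hw, s, ?_⟩
  have hcY : L.e ⁅y, s⁆ ∈ L.Y := L.pup.Z_le (L.e_mem_zS.2 (L.comm_yb_center hw s))
  have hxY : L.e x ∈ L.Y := L.pup.Z_le (L.e_mem_zS.2 hx)
  show L.e (x * ⁅y, s⁆⁻¹) ∈ cenIn L.Y
  rw [map_mul, map_inv, ← L.sect.eq_iff hxY hcY, map_commutatorElement]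
  have hconj : L.e s * (L.e y)⁻¹ * (L.e s)⁻¹ ∈ L.Y := L.pup.Yn.conj_mem _ (inv_mem hw) _
  rw [show ⁅L.e y, L.e s⁆ = L.e y * (L.e s * (L.e y)⁻¹ * (L.e s)⁻¹) by rw [commutatorElement_def]; group,
    L.sect.mul _ hw _ hconj, L.sect.conj _ _ (inv_mem hw), L.sect.map_inv hw, hcw, hs]
  funext i
  fin_cases i
  · show L.cY (L.e x) 0 = (![0, 1] : Fin 2 → L.F) 0 +
      (NatSL2.u (-L.cY (L.e x) 0) : Matrix (Fin 2) (Fin 2) L.F).mulVec (-![0, 1]) 0
    rw [(u_mulVec _ _).1]
    simp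
  · show L.cY (L.e x) 1 = (![0, 1] : Fin 2 → L.F) 1 +
      (NatSL2.u (-L.cY (L.e x) 0) : Matrix (Fin 2) (Fin 2) L.F).mulVec (-![0, 1]) 1
    rw [(u_mulVec _ _).2, L.second_zero (L.e_mem_zS.2 hx)]
    simp

theorem range_comp_aut (σ : MulAut S) : (L.e.comp σ.toMonoidHom).range = L.e.range :=
  by rw [MonoidHom.range_comp, MonoidHom.range_eq_top.2 σ.surjective, MonoidHom.range_eq_map]

/-- The embedding twisted by an automorphism of `S`. -/
def twist (σ : MulAut S) : Leg S p :=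
  { L with
    e := L.e.comp σ.toMonoidHom
    inj := L.inj.comp σ.injective
    pup := (L.range_comp_aut σ).symm ▸ L.pup
    hs₁ := (L.range_comp_aut σ).symm ▸ L.hs₁
    coord := (L.range_comp_aut σ).symm ▸ L.coord
    hnorm := (L.range_comp_aut σ).symm ▸ L.hnorm
    exA := by
      obtain ⟨A, h1, h2, h3⟩ := L.exA
      haveI := h1
      refine ⟨A.map σ.symm.toMonoidHom, inferInstance, fun B hB => ?_, ?_⟩
      · rw [Subgroup.card_map_of_injective (f := σ.symm.toMonoidHom) σ.symm.injective]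
        exact h2 B hB
      · rw [← Subgroup.comap_comap]
        rw [Subgroup.comap_equiv_eq_map_symm' σ, ← Subgroup.map_sup, h3,
          Subgroup.map_top_of_surjective _ σ.symm.surjective] }

theorem twist_yb (σ : MulAut S) : (L.twist σ).yb = L.yb.comap σ.toMonoidHom := rfl

end Leg

end Cfsg.Agent.PushUp
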