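import Cfsg.Agent.Lib.PushUp.Fam.Critical

/-!
# There are no critical paths of three or more edges in the amalgam of a family
-/

set_option autoImplicit false

open scoped commutatorElement

namespace Cfsg.Agent.PushUp.Fam

open Cfsg Cfsg.Agent.PushUp

universe u

variable {S : Type u} [Group S] [Finite S] {p b : ℕ} {B : Leg S p → Prop}

variable (hmin : ShortPaths B b) (htwin : Twin B) (hb : 2 ≤ b) {d : ℕ → Dart B} (hc : Crit b d)
include hmin htwin hb hc

omit [Finite S] hmin in
/-- The first vertex may be replaced by a companion in which `uB` is not normal. -/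
theorem exists_nice : ∃ d' : ℕ → Dart B, Crit b d' ∧ Nn (d' 0).l := by
  obtain ⟨j, hj, hnn⟩ := htwin (d 0).l
  refine ⟨fun i => if i = 0 then ⟨(d 0).f, j, (d 0).r⟩ else d i, ⟨fun i hi => ?_, ?_⟩, by simpa using hnn⟩
  · show Link (if i = 0 then _ else d i) (if i + 1 = 0 then _ else d (i + 1))
    rw [if_neg (show i + 1 ≠ 0 by omega)]
    by_cases hi0 : i = 0
    · subst hi0
      rw [if_pos rfl]
      exact hc.link hb
    · rw [if_neg hi0]
      exact hc.chain i hi
  · rw [if_neg (show b - 1 ≠ 0 by omega), if_pos rfl]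
    show ¬ (yI B j).map (emb (d 0).f j) ≤ _
    rw [(map_twin _ hj).1]
    exact hc.not_le

omit [Finite S] hmin in
/-- The last vertex may be replaced by a companion in which `uB` is not normal. -/
theorem exists_nice_last : ∃ d' : ℕ → Dart B, Crit b d' ∧ Nn (d' (b - 1)).r ∧ (∀ i, i < b - 1 → d' i = d i) ∧
    (d' (b - 1)).f = (d (b - 1)).f ∧ (d' (b - 1)).l = (d (b - 1)).l ∧
    (d' (b - 1)).tgt (yI B) = (d (b - 1)).tgt (yI B) := by
  obtain ⟨j, hj, hnn⟩ := htwin (d (b - 1)).r
  refine ⟨fun i => if i = b - 1 then ⟨(d (b - 1)).f, (d (b - 1)).l, j⟩ else d i, ⟨fun i hi => ?_, ?_⟩,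
    by simpa using hnn, fun i hi => if_neg hi.ne, by simp, by simp, ?_⟩
  · show Link (if i = b - 1 then _ else d i) (if i + 1 = b - 1 then _ else d (i + 1))
    rw [if_neg (show i ≠ b - 1 by omega)]
    by_cases hi0 : i + 1 = b - 1
    · rw [if_pos hi0]
      have h1 := hc.chain i hi
      rw [hi0] at h1
      exact h1
    · rw [if_neg hi0]
      exact hc.chain i hi
  · rw [if_neg (show 0 ≠ b - 1 by omega), if_pos rfl]
    show ¬ _ ≤ (qI B j).map (emb (d (b - 1)).f j)
    rw [(map_twin _ hj).2]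
    exact hc.not_le
  · show (if b - 1 = b - 1 then (⟨(d (b - 1)).f, (d (b - 1)).l, j⟩ : Dart B) else d (b - 1)).tgt (yI B) = _
    rw [if_pos rfl]
    exact (map_twin _ hj).1

theorem exists_right (hnn : Nn (d (b - 1)).r) :
    ∃ e : Dart B, Turn (d (b - 1)) e ∧ Nn e.r ∧ Crit b (fun i => if i + 1 < b then d (i + 1) else e) := by
  have hrev : revD b d 0 = (d (b - 1)).rev := by show (d (b - 1 - 0)).rev = _; rw [Nat.sub_zero]
  obtain ⟨e, -, hen, he, hce⟩ := exists_left hmin hb (crit_rev hmin hb hc) htwin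
    (by rw [hrev]; exact hnn) (revD b d 0).l.1.hg
  rw [hrev] at he
  refine ⟨e.rev, he.rev, hen, fun i hi => ?_, ?_⟩
  · show Link (if i + 1 < b then d (i + 1) else e.rev) (if i + 1 + 1 < b then d (i + 1 + 1) else e.rev)
    rw [if_pos hi]
    by_cases h2 : i + 1 + 1 < b
    · rw [if_pos h2]; exact hc.chain _ h2
    · rw [if_neg h2, show i + 1 = b - 1 by omega]
      exact he.rev.link
  · have h1 := not_le' hmin hb hce
    show ¬ (if 0 + 1 < b then d (0 + 1) else e.rev).src (yI B) ≤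
      (if b - 1 + 1 < b then d (b - 1 + 1) else e.rev).tgt (qI B)
    rw [if_pos (by omega), if_neg (by omega)]
    rw [show b - 1 = (b - 2) + 1 by omega] at h1
    change ¬ (d (b - 1 - (b - 2))).rev.tgt (yI B) ≤ e.src (qI B) at h1
    rw [show b - 1 - (b - 2) = 1 by omega] at h1
    exact h1

/-- The commutator of the ends is central at the second vertex, if this is a turn. -/
theorem mid_comm (ht : Turn (d 0) (d 1)) {z w : Amal B} (hz : z ∈ (d 0).src (yI B))
    (hw : w ∈ (d (b - 1)).tgt (yI B)) : ⁅z, w⁆ ∈ (d 0).tgt (cI B) := by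
  obtain ⟨d', hc', hnn, hd', hf, hl, htgt⟩ := exists_nice_last htwin hb hc
  obtain ⟨e, -, -, hce⟩ := exists_right hmin htwin hb hc' hnn
  have h0 : d' 0 = d 0 := hd' 0 (by omega)
  have ht' : Turn (d 0) (d' 1) := by
    by_cases h1 : 1 = b - 1
    · obtain ⟨g1, g, hg, g2⟩ := ht
      refine ⟨?_, g, hg, ?_⟩
      · rw [h1, hl, ← h1]; exact g1
      · rw [h1, hf, ← h1]; exact g2
    · rw [hd' 1 (by omega)]; exact ht
  have h2 := left_comm hmin hb hce (e := d 0) (by rw [if_pos (show 0 + 1 < b by omega)]; exact ht') hz (t := w)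
    (by rw [if_pos (show b - 2 + 1 < b by omega), show b - 2 + 1 = b - 1 by omega, htgt]; exact hw)
  rw [if_pos (show 0 + 1 < b by omega)] at h2
  rw [← h0]
  rwa [← (hc'.link hb).src_eq cI_normal]

/-- Every critical path gives one in which all inner vertices are turns. -/
theorem exists_turns : ∃ d' : ℕ → Dart B, Crit b d' ∧ Nn (d' 0).l ∧ Turns b d' := by
  have key : ∀ j, ∃ d' : ℕ → Dart B, Crit b d' ∧ Nn (d' 0).l ∧
      ∀ i, i < j → i + 1 < b → Turn (d' i) (d' (i + 1)) := by
    intro j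
    induction j with
    | zero =>
      obtain ⟨d', hc', hnn⟩ := exists_nice htwin hb hc
      exact ⟨d', hc', hnn, fun i hi => absurd hi (Nat.not_lt_zero i)⟩
    | succ j ih =>
      obtain ⟨d', hc', hnn, ht⟩ := ih
      obtain ⟨e, -, hen, he, hce⟩ := exists_left hmin hb hc' htwin hnn (d' 0).l.1.hg
      refine ⟨_, hce, hen, fun i hi hi' => ?_⟩
      cases i with
      | zero => exact he
      | succ i => exact ht i (by omega) (by omega)
  obtain ⟨d', hc', hnn, ht⟩ := key b
  exact ⟨d', hc', hnn, fun i hi => ht i (by omega) hi⟩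

/-- The second vertex is pushed into the inner Sylow subgroup by every element outside `M`. -/
theorem mate_le (hb3 : 3 ≤ b) (ht : Turns b d) {g : (d 0).l.1.G} (hg : g ∉ (d 0).l.1.M) :
    (yI B (d 0).r).map (emb ((d 0).f * io (d 0).l g) (d 0).r) ≤ (d (b - 2)).tgt (qI B) := by
  by_contra hle
  set e : Dart B := ⟨(d 0).f * io (d 0).l g, (d 0).r, (d 0).l⟩ with he
  have het : Turn e (d 0) := ⟨rfl, g⁻¹, fun hc' => hg ((Subgroup.inv_mem_iff (d 0).l.1.M).1 hc'),
    show (d 0).f = (d 0).f * io (d 0).l g * io (d 0).l g⁻¹ by rw [map_inv, mul_inv_cancel_right]⟩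
  have hidx : b - 1 = (b - 2) + 1 := by omega
  have hc' : Crit b (consD e d) := by
    refine ⟨fun i hi => ?_, by rw [hidx]; exact hle⟩
    cases i with
    | zero => exact het.link
    | succ i => exact hc.chain i (by omega)
  obtain ⟨z, hz, w, hw, hzw⟩ := exists_nontriv hmin hb hc'
  apply hzw
  -- central at the old first vertex
  have hc0 : ⁅z, w⁆ ∈ (d 0).src (cI B) := left_comm hmin hb hc het hz (by rw [hidx] at hw; exact hw)
  -- central at the last vertex but one
  have hcL : ⁅z, w⁆ ∈ (d (b - 2)).src (cI B) := by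
    have h1 := mid_comm hmin htwin hb (crit_rev hmin hb hc') ((ht.cons het).reverse 0 (by omega))
      (z := w) (w := z) (by show w ∈ (consD e d (b - 1 - 0)).rev.src (yI B); rw [Nat.sub_zero]; exact hw)
      (by show z ∈ (consD e d (b - 1 - (b - 1))).rev.tgt (yI B); rw [Nat.sub_self]; exact hz)
    change ⁅w, z⁆ ∈ (consD e d (b - 1 - 0)).rev.tgt (cI B) at h1
    rw [Nat.sub_zero, hidx] at h1
    rw [← commutatorElement_inv]
    exact inv_mem h1
  -- an element at the second vertex outside the core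
  obtain ⟨-, gM, hgM, hd1⟩ := ht 0 (by omega)
  obtain ⟨d', hc2, hnn, hd', hf, hl, -⟩ := exists_nice_last htwin hb hc
  obtain ⟨e', he', -, hcr⟩ := exists_right hmin htwin hb hc2 hnn
  obtain ⟨x, hx, hxS, hxQ⟩ := exists_w hmin hb hcr
  rw [if_neg (show ¬ (b - 1 + 1 < b) by omega)] at hx
  rw [if_pos (show 0 + 1 < b by omega), hd' (0 + 1) (by omega)] at hxS hxQ
  have hcomm : Commute ⁅z, w⁆ x := by
    refine commute_C hcL ?_
    by_cases hb4 : b = 3
    · subst hb4
      exact sh_range _ _ hxS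
    · have hch : Chain 3 (fun i => if i + (b - 2) < b then d' (i + (b - 2)) else e') := fun i hi => by
        show Link (if i + (b - 2) < b then d' (i + (b - 2)) else e')
          (if i + 1 + (b - 2) < b then d' (i + 1 + (b - 2)) else e')
        rw [if_pos (by omega)]
        rcases (show i = 0 ∨ i = 1 by omega) with rfl | rfl
        · rw [if_pos (by omega), show 0 + 1 + (b - 2) = 0 + (b - 2) + 1 by omega]
          exact hc2.chain _ (by omega)
        · rw [if_neg (by omega), show 1 + (b - 2) = b - 1 by omega]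
          exact he'.link
      have h3 := hmin 3 (by norm_num) (by omega) _ hch.reverse (by
        show x ∈ (if 3 - 1 - 0 + (b - 2) < b then d' (3 - 1 - 0 + (b - 2)) else e').rev.src (yI B)
        rw [if_neg (by omega)]
        exact hx)
      change x ∈ (if 3 - 1 - (3 - 1) + (b - 2) < b then d' (3 - 1 - (3 - 1) + (b - 2)) else e').rev.tgt (qI B) at h3
      rw [if_pos (by omega), show 3 - 1 - (3 - 1) + (b - 2) = b - 2 by omega, hd' _ (by omega)] at h3
      exact Subgroup.map_le_range _ _ h3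
  -- hence central at the second vertex
  have hzh : ⁅z, w⁆ ∈ zh (d 0).f := cI_le_zh _ _ hc0
  have hzY : ⁅z, w⁆ ∈ (d 1).src (yI B) := by
    rw [(hc.link hb).src_eq yI_normal]
    exact zh_le _ _ hzh
  have h4 : ⁅z, w⁆ ∈ zh (d 1).f := sep' hzY hxS hxQ hcomm
  rw [hd1] at h4
  obtain ⟨c1, hc1, hce⟩ := cap hgM hzh h4
  refine ⟨c1, hc1, ?_⟩
  show emb ((d 0).f * io (d 0).l g) (d 0).r c1 = _
  rw [emb_shift, hce, ← (commute_C hc0 (x := emb (d 0).f (d 0).l g) ⟨g, rfl⟩).eq, mul_inv_cancel_right]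

/-- The first two vertices give a subgroup normal at the first vertex. -/
theorem pair_normal (hb3 : 3 ≤ b) (ht : Turns b d) : (emb (d 0).f (d 0).l).range ≤
    Subgroup.normalizer (((d 0).src (yI B) ⊔ (d 0).tgt (yI B) : Subgroup (Amal B)) : Set (Amal B)) := by
  obtain ⟨g, hg⟩ : ∃ g, g ∉ (d 0).l.1.M := ⟨_, (d 0).l.1.hg⟩
  set A := (d 0).src (yI B) ⊔ (d 0).tgt (yI B) with hA
  set k := emb (d 0).f (d 0).l g with hk
  have hl := hc.chain (b - 2) (by omega)
  rw [show b - 2 + 1 = b - 1 by omega] at hl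
  have hconj : ∀ {x : Amal B}, x ∈ (d 0).src (yI B) → k⁻¹ * x * k ∈ (d 0).src (yI B) := fun hx => by
    simpa using conj_mem_map (yI_normal _) hx (g := k⁻¹) (inv_mem ⟨g, rfl⟩)
  -- conjugates of the end elements normalize `A`
  have key : ∀ v ∈ (d (b - 1)).tgt (yI B), A ≤ A.comap (MulAut.conj (k⁻¹ * v * k)).toMonoidHom := by
    intro v hv
    have hvR : v ∈ (emb (d 0).f (d 0).l).range := sh_range _ _ (tgt_sh_first hmin hb hc hv)
    refine sup_le (fun x hx => Subgroup.mem_sup_left (conj_mem_map (yI_normal _) hx ?_)) fun x hx => ?_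
    · exact mul_mem (mul_mem (inv_mem ⟨g, rfl⟩) hvR) ⟨g, rfl⟩
    · show k⁻¹ * v * k * x * (k⁻¹ * v * k)⁻¹ ∈ A
      have hkx : k * x * k⁻¹ ∈ (yI B (d 0).r).map (emb ((d 0).f * io (d 0).l g) (d 0).r) := by
        obtain ⟨a, ha, rfl⟩ := hx
        exact ⟨a, ha, emb_shift _ _ _ _ _⟩
      have hsh : k * x * k⁻¹ ∈ sh (d (b - 1)).f := by
        have h1 := mate_le hmin htwin hb hc hb3 ht hg hkx
        rw [← hl.src_eq qI_normal] at h1
        exact Q_sh _ _ h1
      rw [show k⁻¹ * v * k * x * (k⁻¹ * v * k)⁻¹ = k⁻¹ * ⁅k * x * k⁻¹, v⁆⁻¹ * k * x by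
        simp only [commutatorElement_def]; group]
      exact mul_mem (Subgroup.mem_sup_left (hconj (inv_mem (comm_shift hmin hb hc hsh hv))))
        (Subgroup.mem_sup_right hx)
  obtain ⟨w, hw, hwS, hwQ⟩ := exists_w hmin hb hc
  obtain ⟨s, hsw⟩ := hwS
  have hgi : g⁻¹ ∉ (d 0).l.1.M := fun hc' => hg ((Subgroup.inv_mem_iff _).1 hc')
  have e1 : k⁻¹ * w * k = bs ((d 0).f * io (d 0).l g⁻¹) s := by
    rw [bs_shift, hk, ← hsw, ← emb_e (d 0).f (d 0).l s, ← map_inv, ← map_mul, ← map_mul, inv_inv]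
  refine gen hgi (w := k⁻¹ * w * k) ⟨s, e1.symm⟩ ?_ ?_ ?_
  · intro hq
    refine hwQ ?_
    have := conj_mem_map (qI_normal _) hq (g := k) ⟨g, rfl⟩
    simpa [mul_assoc] using this
  · intro u hu
    have hi : ∀ u : Amal B, u ∈ sh (d 0).f → A ≤ A.comap (MulAut.conj u).toMonoidHom := fun u hu =>
      sup_le (fun x hx => Subgroup.mem_sup_left (conj_mem_map (yI_normal _) hx (sh_range _ _ hu)))
        (fun x hx => Subgroup.mem_sup_right (conj_mem_map (yI_normal _) hx (sh_range _ _ hu)))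
    refine Subgroup.mem_normalizer_iff.2 fun x => ⟨fun hx => hi _ hu hx, fun hx => ?_⟩
    have h2 := hi _ (inv_mem hu) hx
    simpa [mul_assoc] using h2
  · refine Subgroup.mem_normalizer_iff.2 fun x => ⟨fun hx => key w hw hx, fun hx => ?_⟩
    have h2 := key w⁻¹ (inv_mem hw) hx
    simpa [mul_assoc] using h2

/-- No critical path has three or more edges. -/
theorem no_long (hb3 : 3 ≤ b) : False := by
  obtain ⟨d, hc, hnn, ht⟩ := exists_turns hmin htwin hb hc
  obtain ⟨e, -, hen, he, hce⟩ := exists_left hmin hb hc htwin hnn (d 0).l.1.hg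
  -- a path ending with the new edge
  have key : ∀ j, j < b → ∃ d' : ℕ → Dart B, Crit b d' ∧ Nn (d' 0).l ∧ Turns b d' ∧ d' j = e := by
    intro j
    induction j with
    | zero => exact fun _ => ⟨_, hce, hen, ht.cons he, rfl⟩
    | succ j ih =>
      intro hj
      obtain ⟨d', hc', hnn', ht', hj'⟩ := ih (by omega)
      obtain ⟨e', -, hen', he', hce'⟩ := exists_left hmin hb hc' htwin hnn' (d' 0).l.1.hg
      exact ⟨_, hce', hen', ht'.cons he', hj'⟩
  obtain ⟨d', hc', -, ht', hlast⟩ := key (b - 1) (by omega)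
  have hnorm := pair_normal hmin htwin hb (crit_rev hmin hb hc') hb3 ht'.reverse
  have e0 : revD b d' 0 = e.rev := by show (d' (b - 1 - 0)).rev = _; rw [Nat.sub_zero, hlast]
  rw [e0] at hnorm
  obtain ⟨ef, el, er⟩ := e
  obtain ⟨hel, g, hg, hef⟩ : er = (d 0).l ∧
    ∃ g : (d 0).l.1.G, g ∉ (d 0).l.1.M ∧ ef = (d 0).f * io (d 0).l g := he.rev
  subst hel hef
  set k := emb (d 0).f (d 0).l g with hk
  set A := (yI B (d 0).l).map (emb ((d 0).f * io (d 0).l g) (d 0).l) ⊔
    (yI B el).map (emb ((d 0).f * io (d 0).l g) el) with hA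
  set A' := (d 0).src (yI B) ⊔ (yI B el).map (emb (d 0).f el) with hA'
  have hkA : k ∈ Subgroup.normalizer (A : Set (Amal B)) := by
    refine hnorm ?_
    show k ∈ (emb ((d 0).f * io (d 0).l g) (d 0).l).range
    rw [range_emb_mul]
    exact ⟨g, rfl⟩
  have hAmap : A ≤ A'.map (MulAut.conj k).toMonoidHom := by
    refine sup_le ?_ ?_
    · intro x hx
      rw [map_emb_mul _ _ _ (yI_normal _)] at hx
      refine ⟨k⁻¹ * x * k, Subgroup.mem_sup_left ?_, by simp [mul_assoc]⟩
      simpa using conj_mem_map (yI_normal _) hx (g := k⁻¹) (inv_mem ⟨g, rfl⟩)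
    · rintro _ ⟨a, ha, rfl⟩
      exact ⟨_, Subgroup.mem_sup_right ⟨a, ha, rfl⟩, (emb_shift _ _ _ _ _).symm⟩
  have hsub : (yI B el).map (emb ((d 0).f * io (d 0).l g) el) ≤ A' := fun x hx => by
    obtain ⟨a, ha, hax⟩ := hAmap ((Subgroup.mem_normalizer_iff.1 hkA x).1 (Subgroup.mem_sup_right hx))
    exact (MulAut.conj k).injective hax ▸ ha
  refine hce.not_le ?_
  rw [show b - 1 = (b - 2) + 1 by omega]
  show (yI B el).map (emb ((d 0).f * io (d 0).l g) el) ≤ (d (b - 2)).tgt (qI B)
  refine hsub.trans (sup_le ?_ ?_)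
  · have h1 := hmin (b - 1) (by omega) (by omega) d (hc.chain.mono (by omega))
    rwa [show b - 1 - 1 = b - 2 by omega] at h1
  · have hch : Chain (b - 1) (fun i => if i = 0 then ⟨(d 0).f, el, (d 0).r⟩ else d i) := fun i hi => by
      show Link (if i = 0 then _ else d i) (if i + 1 = 0 then _ else d (i + 1))
      rw [if_neg (show i + 1 ≠ 0 by omega)]
      by_cases hi0 : i = 0
      · subst hi0
        rw [if_pos rfl]
        exact hc.link hb
      · rw [if_neg hi0]
        exact hc.chain i (by omega)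
    have h1 := hmin (b - 1) (by omega) (by omega) _ hch
    simp only [if_true, show b - 1 - 1 = b - 2 by omega, if_neg (show b - 2 ≠ 0 by omega)] at h1
    exact h1

end Cfsg.Agent.PushUp.Fam
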