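import Cfsg.Agent.Lib.PushUp.Fam.TwoEdge

/-!
# Two characteristic subgroups, one of which is normal in every group over `S`
-/

set_option autoImplicit false

open scoped commutatorElement

namespace Cfsg.Agent.PushUp

open Cfsg

universe u

variable {S : Type u} [Group S] {p : ℕ}

namespace Leg

theorem twist_qb (L : Leg S p) (σ : MulAut S) : (L.twist σ).qb = L.qb.comap σ.toMonoidHom := rfl

theorem twist_cb (L : Leg S p) (σ : MulAut S) : (L.twist σ).cb = L.cb.comap σ.toMonoidHom := rfl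

theorem paired_twist {L : Leg S p} (σ : MulAut S) (h : L.Paired) : (L.twist σ).Paired := by
  obtain ⟨L', h'⟩ := h
  refine ⟨L'.twist σ, fun hle => h' ?_⟩
  rw [twist_yb, twist_qb] at hle
  exact (Subgroup.comap_le_comap_of_surjective σ.surjective).1 hle

theorem paired_twist_iff (L : Leg S p) (σ : MulAut S) : (L.twist σ).Paired ↔ L.Paired := by
  refine ⟨fun h => ?_, paired_twist σ⟩
  obtain ⟨L', h'⟩ := h
  refine ⟨L'.twist σ⁻¹, fun hle => h' ?_⟩
  intro x hx
  have h1 : σ x ∈ (L'.twist σ⁻¹).yb := by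
    show σ⁻¹ (σ x) ∈ L'.yb
    rwa [MulAut.inv_apply_self]
  exact hle h1

theorem twist_le_cb {T : Subgroup S} (hT : T.Characteristic) (L : Leg S p) (σ : MulAut S) :
    T ≤ (L.twist σ).cb ↔ T ≤ L.cb := by
  rw [twist_cb, ← Subgroup.characteristic_iff_comap_eq.1 hT σ,
    Subgroup.comap_le_comap_of_surjective σ.surjective, Subgroup.characteristic_iff_comap_eq.1 hT σ]

theorem comm_twist (L : Leg S p) (σ : MulAut S) :
    ⁅(L.twist σ).yb, (⊤ : Subgroup S)⁆ = ⁅L.yb, (⊤ : Subgroup S)⁆.comap σ.toMonoidHom := by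
  rw [twist_yb, Subgroup.comap_equiv_eq_map_symm' σ, Subgroup.comap_equiv_eq_map_symm' σ, Subgroup.map_commutator,
    Subgroup.map_top_of_surjective _ σ.symm.surjective]

theorem comm_le_center (L : Leg S p) : ⁅L.yb, (⊤ : Subgroup S)⁆ ≤ Subgroup.center S :=
  Subgroup.commutator_le.2 fun _ hy s _ => L.comm_yb_center hy s

theorem comm_ne_bot (L : Leg S p) : ⁅L.yb, (⊤ : Subgroup S)⁆ ≠ ⊥ := by
  obtain ⟨y, hy, hyz⟩ := L.exists_not_center
  intro h
  refine hyz (Subgroup.mem_center_iff.2 fun s => ?_)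
  have h1 := Subgroup.commutator_mem_commutator hy (Subgroup.mem_top s)
  rw [h, Subgroup.mem_bot, commutatorElement_eq_one_iff_mul_comm] at h1
  exact h1.symm

/-- A join over a family of groups closed under automorphisms is characteristic. -/
theorem char_iSup (P : Leg S p → Prop) (X : Leg S p → Subgroup S) (hP : ∀ L σ, P L → P (L.twist σ))
    (hX : ∀ L σ, X (L.twist σ) = (X L).comap σ.toMonoidHom) :
    (⨆ i : {L : Leg S p // P L}, X i.1).Characteristic := by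
  refine Subgroup.characteristic_iff_map_le.2 fun σ => ?_
  rw [Subgroup.map_iSup]
  refine iSup_le fun i => le_trans (le_of_eq ?_) (le_iSup _ (⟨i.1.twist σ.symm, hP _ _ i.2⟩ : {L : Leg S p // P L}))
  show (X i.1).map σ.toMonoidHom = X (i.1.twist σ.symm)
  rw [hX, Subgroup.map_equiv_eq_comap_symm' σ]

end Leg

namespace Fam

variable [Finite S] [hp : Fact p.Prime] {B : Leg S p → Prop}

omit [Finite S] hp in
/-- If no path has ends which do not commute, a characteristic subgroup is normal in every member. -/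
theorem exists_closed (htw : ∀ L σ, B L → B (L.twist σ)) (i₀ : Ix B)
    (hcon : ∀ k, 1 ≤ k → ∀ d : ℕ → Dart B, Chain k d → (d 0).src (yI B) ≤ (d (k - 1)).tgt (qI B)) :
    ∃ X : Subgroup S, X ≠ ⊥ ∧ X.Characteristic ∧ ∀ i : Ix B, (X.map i.1.e).Normal := by
  let ι := {x : ℕ × (ℕ → Dart B) // 1 ≤ x.1 ∧ Chain x.1 x.2 ∧ (x.2 0).f = 1}
  set W : Subgroup (Amal B) := ⨆ i : ι, (i.1.2 (i.1.1 - 1)).tgt (yI B) with hW
  have hWle : ∀ α : Ix B, W ≤ (qI B α).map (emb 1 α) := fun α => iSup_le fun ⟨⟨k, d⟩, hk, hd, hf⟩ => by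
    change (d 0).f = 1 at hf
    let d' : ℕ → Dart B := fun i => if i = 0 then ⟨1, α, (d 0).r⟩ else d i
    have hd' : Chain k d' := fun i hi => by
      show Link (if i = 0 then _ else d i) (if i + 1 = 0 then _ else d (i + 1))
      rw [if_neg (show i + 1 ≠ 0 by omega)]
      by_cases hi0 : i = 0
      · subst hi0
        rw [if_pos rfl]
        obtain ⟨h1, g, h2⟩ := hd 0 hi
        exact ⟨h1, g, by rw [h2, hf]⟩
      · rw [if_neg hi0]
        exact hd i hi
    have h1 := hcon k hk (revD k d') hd'.reverse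
    change (d' (k - 1 - 0)).rev.src (yI B) ≤ (d' (k - 1 - (k - 1))).rev.tgt (qI B) at h1
    rw [Nat.sub_zero, Nat.sub_self] at h1
    change (d' (k - 1)).tgt (yI B) ≤ (qI B α).map (emb 1 α) at h1
    refine le_trans (le_of_eq ?_) h1
    show (d (k - 1)).tgt (yI B) = (d' (k - 1)).tgt (yI B)
    by_cases hk1 : k - 1 = 0
    · rw [hk1]
      show (yI B (d 0).r).map (emb (d 0).f (d 0).r) = (yI B (d 0).r).map (emb 1 (d 0).r)
      rw [hf]
    · simp only [d', if_neg hk1]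
  have hWinv : ∀ (α : Ix B) (g : α.1.G) (x : Amal B), x ∈ W →
      emb 1 α g * x * (emb 1 α g)⁻¹ ∈ W := by
    intro α g x hx
    have : W ≤ W.comap (MulAut.conj (emb (1 : Amal B) α g)).toMonoidHom := iSup_le fun ⟨⟨k, d⟩, hk, hd, hf⟩ => by
      rintro _ ⟨y, hy, rfl⟩
      change (d 0).f = 1 at hf
      set a := emb (1 : Amal B) α g with ha
      let dT : ℕ → Dart B := fun i => if i = 0 then ⟨a, α, (d 0).r⟩ else ⟨a * (d i).f, (d i).l, (d i).r⟩
      have hdT : Chain k dT := fun i hi => by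
        show Link (if i = 0 then _ else _) (if i + 1 = 0 then _ else _)
        rw [if_neg (show i + 1 ≠ 0 by omega)]
        obtain ⟨h1, g', h2⟩ := hd i hi
        by_cases hi0 : i = 0
        · subst hi0
          rw [if_pos rfl]
          exact ⟨h1, g', by show a * (d (0 + 1)).f = a * io (d 0).r g'; rw [h2, hf, one_mul]⟩
        · rw [if_neg hi0]
          exact ⟨h1, g', by show a * (d (i + 1)).f = a * (d i).f * io (d i).r g'; rw [h2, mul_assoc]⟩
      have hl : Link (⟨1, α, α⟩ : Dart B) (dT 0) :=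
        ⟨rfl, g, by show a = 1 * io α g; rw [ha, emb_apply]; simp⟩
      refine Subgroup.mem_iSup_of_mem (⟨(k + 1, consD ⟨1, α, α⟩ dT), by simp, hdT.cons hl, rfl⟩ : ι) ?_
      show a * emb (d (k - 1)).f (d (k - 1)).r y * a⁻¹ ∈ (consD ⟨1, α, α⟩ dT (k + 1 - 1)).tgt (yI B)
      rw [show k + 1 - 1 = (k - 1) + 1 by change 1 ≤ k at hk; omega]
      show _ ∈ (dT (k - 1)).tgt (yI B)
      rw [← emb_left]
      have key : (dT (k - 1)).tgt (yI B) = (yI B (d (k - 1)).r).map (emb (a * (d (k - 1)).f) (d (k - 1)).r) := by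
        by_cases hk1 : k - 1 = 0
        · rw [hk1]
          show (yI B (d 0).r).map (emb a (d 0).r) = _
          rw [hf, mul_one]
        · simp only [dT, if_neg hk1]
      rw [key]
      exact ⟨y, hy, rfl⟩
    exact this hx
  set W0 := W.comap (bs (1 : Amal B)) with hW0
  have hn : ∀ α : Ix B, (W0.map α.1.e).Normal := by
    refine fun α => ⟨?_⟩
    rintro _ ⟨x, hx, rfl⟩ g
    have h1 := hWinv α g _ (show emb 1 α (α.1.e x) ∈ W by rw [emb_e]; exact hx)
    rw [← map_inv, ← map_mul, ← map_mul] at h1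
    obtain ⟨w, hw, hwe⟩ := hWle α h1
    obtain ⟨s, rfl⟩ := α.1.Q_le hw
    refine ⟨s, ?_, emb_injective 1 α hwe⟩
    show bs 1 s ∈ W
    rw [← emb_e 1 α, hwe]
    exact h1
  have hYW : i₀.1.yb ≤ W0 := fun y hy => Subgroup.mem_iSup_of_mem
    (⟨(1, fun _ => ⟨1, i₀, i₀⟩), le_rfl, fun i hi => absurd hi (by omega), rfl⟩ : ι)
    (show bs 1 y ∈ (yI B i₀).map (emb 1 i₀) by rw [map_yI]; exact ⟨y, hy, rfl⟩)
  refine ⟨⨆ σ : MulAut S, W0.map σ.toMonoidHom, fun h0 => ?_, ?_, fun i => ?_⟩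
  · obtain ⟨y, hy, hyz⟩ := i₀.1.exists_not_center
    have h1 : y ∈ ⨆ σ : MulAut S, W0.map σ.toMonoidHom := Subgroup.mem_iSup_of_mem 1 ⟨y, hYW hy, rfl⟩
    rw [h0, Subgroup.mem_bot] at h1
    exact hyz (h1 ▸ one_mem _)
  · refine Subgroup.characteristic_iff_map_le.2 fun τ => ?_
    rw [Subgroup.map_iSup]
    refine iSup_le fun σ => le_trans (le_of_eq ?_) (le_iSup _ (τ * σ))
    rw [Subgroup.map_map]
    rfl
  · rw [Subgroup.map_iSup]
    haveI : ∀ σ : MulAut S, ((W0.map σ.toMonoidHom).map i.1.e).Normal := fun σ => by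
      rw [Subgroup.map_map]
      exact hn ⟨i.1.twist σ, htw _ _ i.2⟩
    exact Subgroup.iSup_normal _

/-- In a family with companions no path has ends which do not commute. -/
theorem no_escape (hun : ∀ i j : Ix B, i.1.yb ≤ j.1.qb) (htwin : Twin B)
    (hT : p ≠ 2 → ∀ i : Ix B, ¬ sZero p S ⊓ Subgroup.center S ≤ i.1.cb) :
    ∀ k, 1 ≤ k → ∀ d : ℕ → Dart B, Chain k d → (d 0).src (yI B) ≤ (d (k - 1)).tgt (qI B) := by
  classical
  intro k₀ hk₀ d₀ hd₀
  by_contra hn₀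
  have hex : ∃ k, ∃ d : ℕ → Dart B, 1 ≤ k ∧ Chain k d ∧ ¬ (d 0).src (yI B) ≤ (d (k - 1)).tgt (qI B) :=
    ⟨k₀, d₀, hk₀, hd₀, hn₀⟩
  set b := Nat.find hex with hb
  obtain ⟨d, hk, hd, hnle⟩ := Nat.find_spec hex
  have hmin' : ShortPaths B b := fun k hk1 hkb d' hd' =>
    by_contra fun hc => Nat.find_min hex hkb ⟨d', hk1, hd', hc⟩
  rcases (show b = 1 ∨ b = 2 ∨ 3 ≤ b by change 1 ≤ b at hk; omega) with hb1 | hb2 | hb3
  · rw [← hb, hb1] at hnle
    refine hnle ?_
    show (yI B (d 0).l).map (emb (d 0).f (d 0).l) ≤ (qI B (d 0).r).map (emb (d 0).f (d 0).r)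
    rw [map_yI, map_qI]
    exact Subgroup.map_mono (hun _ _)
  · have hmin : ShortPaths B 2 := hb2 ▸ hmin'
    rw [← hb, hb2] at hd hnle
    have h2 : (2 : ℕ) ≤ 2 := le_rfl
    obtain ⟨d, hc, hnn, ht⟩ := exists_turns hmin htwin h2 ⟨hd, hnle⟩
    obtain ⟨e, -, hen, he, hce⟩ := exists_left hmin h2 hc htwin hnn (d 0).l.1.hg
    obtain ⟨e2, -, hen2, he2, hce2⟩ := exists_left hmin h2 hce htwin hen e.l.1.hg
    obtain ⟨e3, -, -, he3, hce3⟩ := exists_left hmin h2 hce2 htwin hen2 e2.l.1.hg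
    let W : Win B :=
      { a := e2, c := e, c' := d 0, r := d 1, ta := he2, tc := he, tr := ht 0 (by norm_num),
        na := hce2.not_le, nc := hce.not_le, nr := hc.not_le }
    let W' : Win B :=
      { a := (d 0).rev, c := e.rev, c' := e2.rev, r := e3.rev, ta := he.rev, tc := Turn.rev he2,
        tr := Turn.rev he3, na := not_le' hmin h2 hce, nc := not_le' hmin h2 hce2, nr := not_le' hmin h2 hce3 }
    have h1 : W.G₁.q ≤ W.K₁.q := W.q_le hmin
    have h3 : W.K₁.q ≤ W.G₁.q := W'.q_le hmin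
    have hq : W.K₁.q = W.G₁.q := le_antisymm h3 h1
    by_cases hp2 : p = 2
    · exact W.no_char_two hmin hp2
    · have hle : sZero p S ≤ W.G₁.pb := by
        by_cases hp3 : p = 3
        · exact (W.mid hmin).sZero_three hp3
        · refine W.sZero_large hmin ?_ hq
          have h4 := hp.out.two_le
          by_contra hlt
          obtain rfl : p = 4 := by omega
          exact absurd hp.out (by norm_num)
      exact hT hp2 W.c.r fun z hz => (W.mid hmin).pb_le_cb hz.2 (hle hz.1)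
  · exact no_long hmin' htwin (by omega) ⟨hd, hnle⟩ hb3

end Fam

variable [Finite S]

/-- The properties wanted of the first characteristic subgroup. -/
structure Good (p : ℕ) (T : Subgroup S) : Prop where
  char : T.Characteristic
  ne : T ≠ ⊥
  le_center : T ≤ Subgroup.center S
  paired : ∀ L : Leg S p, L.Paired → T ≤ L.cb
  unpaired : ∀ L : Leg S p, ¬ L.Paired → ¬ T ≤ L.cb → T ⊓ ⁅L.yb, (⊤ : Subgroup S)⁆ ≠ ⊥
  odd : p ≠ 2 → T ≤ sZero p S

omit [Finite S] in
theorem sZero_char (p : ℕ) (S : Type u) [Group S] : (sZero p S).Characteristic := by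
  haveI : (powerClosure p 1 (⊤ : Subgroup S)).Characteristic := by
    refine Subgroup.characteristic_iff_map_le.2 fun σ => ?_
    rw [powerClosure, MonoidHom.map_closure]
    refine Subgroup.closure_mono ?_
    rintro _ ⟨_, ⟨x, -, rfl⟩, rfl⟩
    exact ⟨σ x, Subgroup.mem_top _, map_pow σ x _⟩
  unfold sZero
  split_ifs <;> infer_instance

theorem exists_good [hp : Fact p.Prime] (hS : IsPGroup p S) (h : sZero p S ≠ ⊥) : ∃ T : Subgroup S, Good p T := by
  haveI := sZero_char p S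
  have hne : sZero p S ⊓ Subgroup.center S ≠ ⊥ := by
    obtain ⟨z, hz, hzc, hz1⟩ := exists_center_mem hS (sZero p S) h
    intro h0
    exact hz1 (Subgroup.mem_bot.1 (h0.le ⟨hz, hzc⟩))
  by_cases hp2 : p = 2 ∧ ∃ L : Leg S p, ¬ L.Paired
  · obtain ⟨hp2', L₀, hL₀⟩ := hp2
    refine ⟨⨆ i : {L : Leg S p // ¬ L.Paired}, ⁅i.1.yb, (⊤ : Subgroup S)⁆, ?_, ?_, ?_, ?_, ?_, ?_⟩
    · exact Leg.char_iSup (fun L : Leg S p => ¬ L.Paired) (fun L => ⁅L.yb, (⊤ : Subgroup S)⁆)
        (fun L σ hL => fun h' => hL ((L.paired_twist_iff σ).1 h')) fun L σ => L.comm_twist σ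
    · intro h0
      exact L₀.comm_ne_bot (le_bot_iff.1 ((le_iSup (fun i : {L : Leg S p // ¬ L.Paired} =>
        ⁅i.1.yb, (⊤ : Subgroup S)⁆) ⟨L₀, hL₀⟩).trans h0.le))
    · exact iSup_le fun i => i.1.comm_le_center
    · exact fun L hL => iSup_le fun i => Subgroup.commutator_le.2 fun y hy s _ => Leg.paired_comm hL i.2 hy s
    · intro L hL _ h0
      exact L.comm_ne_bot (le_bot_iff.1 ((le_inf (le_iSup (fun i : {L : Leg S p // ¬ L.Paired} =>
        ⁅i.1.yb, (⊤ : Subgroup S)⁆) ⟨L, hL⟩) le_rfl).trans h0.le))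
    · exact fun h2 => absurd hp2' h2
  · refine ⟨sZero p S ⊓ Subgroup.center S, inferInstance, hne, inf_le_right, fun L hL => Leg.paired_sZero hL,
      fun L hL hLT => ?_, fun _ => inf_le_left⟩
    rcases hp.out.eq_two_or_odd' with h2 | hodd
    · exact absurd ⟨h2, L, hL⟩ hp2
    · exact L.inf_comm_ne_bot hodd inferInstance inf_le_right hLT

omit [Finite S] in
theorem normal_of_le_cb {T : Subgroup S} {L : Leg S p} (h : T ≤ L.cb) : (T.map L.e).Normal := by
  refine ⟨?_⟩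
  rintro _ ⟨x, hx, rfl⟩ g
  rw [Subgroup.mem_center_iff.1 (L.cb_central (h hx)), mul_inv_cancel_right]
  exact ⟨x, hx, rfl⟩

/-- Two characteristic subgroups, one of which is normal in every group over `S`. -/
theorem exists_pair [hp : Fact p.Prime] (hS : IsPGroup p S) (h : sZero p S ≠ ⊥) :
    ∃ S₁ S₂ : Subgroup S, S₁ ≠ ⊥ ∧ S₂ ≠ ⊥ ∧ S₁.Characteristic ∧ S₂.Characteristic ∧
      S₁ ≤ Subgroup.center S ∧ ∀ L : Leg S p, (S₁.map L.e).Normal ∨ (S₂.map L.e).Normal := by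
  classical
  have hex : ∃ k, ∃ T : Subgroup S, Good p T ∧ Nat.card T = k := by
    obtain ⟨T, hT⟩ := exists_good hS h
    exact ⟨_, T, hT, rfl⟩
  obtain ⟨T, hT, hTk⟩ := Nat.find_spec hex
  have hmin : ∀ T' : Subgroup S, Good p T' → T' ≤ T → T' = T := fun T' hT' hle =>
    Subgroup.eq_of_le_of_card_ge hle (hTk ▸ Nat.find_min' hex ⟨T', hT', rfl⟩)
  let B : Leg S p → Prop := fun L => ¬ T ≤ L.cb
  have htw : ∀ L σ, B L → B (L.twist σ) := fun L σ hL h' => hL ((L.twist_le_cb hT.char σ).1 h')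
  have hun : ∀ i j : Fam.Ix B, i.1.yb ≤ j.1.qb := fun i j => by
    by_contra hn
    exact j.2 (hT.paired j.1 ⟨i.1, hn⟩)
  by_cases hne : Nonempty (Fam.Ix B)
  swap
  · refine ⟨T, T, hT.ne, hT.ne, hT.char, hT.char, hT.le_center, fun L => Or.inl (normal_of_le_cb ?_)⟩
    by_contra hL
    exact hne ⟨⟨L, hL⟩⟩
  obtain ⟨i₀⟩ := hne
  have hrest : ∀ (X : Subgroup S), X.Characteristic → X ≠ ⊥ → (∀ i : Fam.Ix B, (X.map i.1.e).Normal) →
      ∃ S₁ S₂ : Subgroup S, S₁ ≠ ⊥ ∧ S₂ ≠ ⊥ ∧ S₁.Characteristic ∧ S₂.Characteristic ∧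
        S₁ ≤ Subgroup.center S ∧ ∀ L : Leg S p, (S₁.map L.e).Normal ∨ (S₂.map L.e).Normal := by
    refine fun X hX hXne hXn => ⟨T, X, hT.ne, hXne, hT.char, hX, hT.le_center, fun L => ?_⟩
    by_cases hL : T ≤ L.cb
    · exact Or.inl (normal_of_le_cb hL)
    · exact Or.inr (hXn ⟨L, hL⟩)
  by_cases hsome : ∃ i : Fam.Ix B, Fam.Nn i
  swap
  · refine hrest (Fam.uB B) (Leg.char_iSup B (fun L => L.yb) htw fun L σ => L.twist_yb σ) (fun h0 => ?_)
      fun i => by_contra fun hi => hsome ⟨i, hi⟩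
    obtain ⟨y, hy, hyz⟩ := i₀.1.exists_not_center
    have h1 : y ∈ Fam.uB B := le_iSup (fun i : Fam.Ix B => i.1.yb) i₀ hy
    rw [h0, Subgroup.mem_bot] at h1
    exact hyz (h1 ▸ one_mem _)
  by_cases htwin : Fam.Twin B
  · have hcon := Fam.no_escape hun htwin fun hp2 i hle =>
      i.2 ((le_inf (hT.odd hp2) hT.le_center).trans hle)
    obtain ⟨X, hX1, hX2, hX3⟩ := Fam.exists_closed htw i₀ hcon
    exact hrest X hX2 hX1 hX3
  -- some member has no companion: the subgroup can be made smaller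
  exfalso
  simp only [Fam.Twin, not_forall, not_exists, not_and] at htwin
  obtain ⟨i₁, hi₁⟩ := htwin
  let P : Leg S p → Prop := fun L => B L ∧ ∃ j : Fam.Ix B, Fam.Nn j ∧ L.yb = j.1.yb
  have hU2 : ∀ v ∈ Fam.uB B, ∀ s : S, ⁅v, s⁆ ∈ Subgroup.center S := by
    intro v hv s
    set π := QuotientGroup.mk' (Subgroup.center S)
    have h1 : Fam.uB B ≤ (Subgroup.center (S ⧸ Subgroup.center S)).comap π := iSup_le fun i y hy => by
      refine Subgroup.mem_center_iff.2 fun w => ?_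
      obtain ⟨t, rfl⟩ := QuotientGroup.mk'_surjective (Subgroup.center S) w
      refine (commutatorElement_eq_one_iff_mul_comm.1 ?_).symm
      rw [← map_commutatorElement]
      exact (QuotientGroup.eq_one_iff _).2 (i.1.comm_yb_center hy t)
    have h2 := Subgroup.mem_center_iff.1 (h1 hv) (π s)
    rw [← QuotientGroup.eq_one_iff, ← QuotientGroup.mk'_apply, map_commutatorElement,
      commutatorElement_eq_one_iff_mul_comm]
    exact h2.symm
  have hflat : ∀ L : Fam.Ix B, (∀ j : Fam.Ix B, j.1.yb = L.1.yb → ¬ Fam.Nn j) →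
      ⨆ i : {H : Leg S p // P H}, ⁅i.1.yb, (⊤ : Subgroup S)⁆ ≤ L.1.cb := by
    intro L hL
    refine iSup_le fun ⟨H, hHB, j, hjn, hj⟩ => Subgroup.commutator_le.2 fun y hy s _ => ?_
    exact Leg.flat_comm L.1 H (U := Fam.uB B) (not_not.1 (hL L rfl)) (iSup_le fun i => hun i L) hU2
      (le_iSup (fun i : Fam.Ix B => i.1.yb) L) (le_iSup (fun i : Fam.Ix B => i.1.yb) ⟨H, hHB⟩)
      (hun L ⟨H, hHB⟩) (fun he => hL j (hj.symm.trans he) hjn) hy s
  set T' := T ⊓ ⨆ i : {H : Leg S p // P H}, ⁅i.1.yb, (⊤ : Subgroup S)⁆ with hT'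
  have hU : (Fam.uB B).Characteristic := Leg.char_iSup B (fun L => L.yb) htw fun L σ => L.twist_yb σ
  have hnn : ∀ L : Fam.Ix B, Fam.Nn L → ∀ σ, Fam.Nn (⟨L.1.twist σ, htw _ _ L.2⟩ : Fam.Ix B) := by
    intro L hL σ hn
    refine hL ?_
    have e : (Fam.uB B).map L.1.e = (Fam.uB B).map (L.1.e.comp σ.toMonoidHom) := by
      rw [← Subgroup.map_map, Subgroup.characteristic_iff_map_eq.1 hU σ]
    rw [e]
    exact hn
  have hPtw : ∀ L σ, P L → P (L.twist σ) := by
    rintro L σ ⟨hB, j, hjn, hj⟩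
    exact ⟨htw L σ hB, ⟨j.1.twist σ, htw _ _ j.2⟩, hnn j hjn σ, by rw [Leg.twist_yb, hj]; rfl⟩
  have hlow : ∀ L : Leg S p, P L → T ⊓ ⁅L.yb, (⊤ : Subgroup S)⁆ ≤ T' := fun L hL =>
    inf_le_inf_left T (le_iSup (fun i : {H : Leg S p // P H} => ⁅i.1.yb, (⊤ : Subgroup S)⁆) ⟨L, hL⟩)
  have hgood : Good p T' := by
    refine ⟨?_, fun h0 => ?_, inf_le_left.trans hT.le_center, fun L hL => inf_le_left.trans (hT.paired L hL),
      fun L hL hLT => ?_, fun h2 => inf_le_left.trans (hT.odd h2)⟩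
    · haveI := hT.char
      haveI := Leg.char_iSup P (fun L => ⁅L.yb, (⊤ : Subgroup S)⁆) hPtw fun L σ => L.comm_twist σ
      exact Subgroup.characteristic_inf
    · obtain ⟨j, hj⟩ := hsome
      refine hT.unpaired j.1 (fun hjp => j.2 (hT.paired j.1 hjp)) j.2 (le_bot_iff.1 ?_)
      exact h0 ▸ hlow j.1 ⟨j.2, j, hj, rfl⟩
    · have hLB : B L := fun hle => hLT (inf_le_left.trans hle)
      by_cases hPL : P L
      · intro h0
        refine hT.unpaired L hL hLB (le_bot_iff.1 (h0 ▸ le_inf (hlow L hPL) inf_le_right))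
      · exact absurd (inf_le_right.trans (hflat ⟨L, hLB⟩ fun j hj hjn => hPL ⟨hLB, j, hjn, hj.symm⟩)) hLT
  exact i₁.2 (hmin T' hgood inf_le_left ▸ inf_le_right.trans (hflat i₁ hi₁))

end Cfsg.Agent.PushUp
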