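import Cfsg.Agent.Lib.PushUp.Fam.Pairs

/-!
# The middle of a critical path of two edges, seen in `S`
-/

set_option autoImplicit false

open scoped commutatorElement

namespace Cfsg.Agent.PushUp

open Cfsg

universe u

variable {S : Type u} [Group S] {p : ℕ}

/-- The data at the common star of `K` and `G`; `YE` and `YL` come from the outer neighbours, `QE` and `QL` from
their cores. -/
structure Mid (K G : Leg S p) (YE YL QE QL : Subgroup S) : Prop where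
  YE_le : YE ≤ K.qb
  YL_le : YL ≤ G.qb
  sup_E : ∀ s : S, ∃ x ∈ YE, ∃ w ∈ G.qb, s = x * w
  sup_L : ∀ s : S, ∃ x ∈ YL, ∃ w ∈ K.qb, s = x * w
  YE_ab : ∀ x ∈ YE, ∀ y ∈ YE, Commute x y
  YL_ab : ∀ x ∈ YL, ∀ y ∈ YL, Commute x y
  YE_exp : ∀ x ∈ YE, x ^ p = 1
  YL_exp : ∀ x ∈ YL, x ^ p = 1
  comm_E : ∀ x ∈ YE, ∀ y ∈ G.yb, ⁅x, y⁆ ∈ K.cb
  comm_L : ∀ x ∈ YL, ∀ y ∈ K.yb, ⁅y, x⁆ ∈ G.cb
  K_le : K.yb ≤ G.qb
  G_le : G.yb ≤ K.qb
  G_QL : G.yb ≤ QL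
  QE_cent : ∀ w ∈ QE, ∀ x ∈ YE, Commute x w
  QL_cent : ∀ w ∈ QL, ∀ x ∈ YL, Commute x w
  splitE : ∀ a ∈ K.qb ⊓ G.qb, ∃ y ∈ G.yb, ∃ w ∈ QE, a = y * w
  splitL : ∀ a ∈ K.qb ⊓ G.qb, ∃ y ∈ K.yb, ∃ w ∈ QL, a = y * w
  comm_QL : ∀ a ∈ G.qb, ∀ b ∈ G.qb, ⁅a, b⁆ ∈ QL

/-- The intersection of the three cores. -/
def midE (K G : Leg S p) (QL : Subgroup S) : Subgroup S := K.qb ⊓ G.qb ⊓ QL

theorem comm_mul_left {H : Type*} [Group H] (a b c : H) : ⁅a * b, c⁆ = a * ⁅b, c⁆ * a⁻¹ * ⁅a, c⁆ := by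
  simp only [commutatorElement_def]; group

theorem comm_mul_right {H : Type*} [Group H] (a b c : H) : ⁅a, b * c⁆ = ⁅a, b⁆ * (b * ⁅a, c⁆ * b⁻¹) := by
  simp only [commutatorElement_def]; group

/-- Commutators of products of two commuting parts. -/
theorem comm_parts {H : Type*} [Group H] {u v u' v' : H} (h1 : Commute u v') (h2 : Commute v u')
    (h3 : Commute u v) (h4 : Commute u' v') : ⁅u * v, u' * v'⁆ = ⁅u, u'⁆ * ⁅v, v'⁆ := by
  have e1 : ⁅u, u' * v'⁆ = ⁅u, u'⁆ := by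
    rw [comm_mul_right, commutatorElement_eq_one_iff_commute.2 h1, mul_one, mul_inv_cancel, mul_one]
  have e2 : ⁅v, u' * v'⁆ = u' * ⁅v, v'⁆ * u'⁻¹ := by
    rw [comm_mul_right, commutatorElement_eq_one_iff_commute.2 h2, one_mul]
  have c1 : Commute u' ⁅v, v'⁆ := by
    rw [commutatorElement_def]
    exact ((h2.symm.mul_right h4).mul_right h2.symm.inv_right).mul_right h4.inv_right
  have c2 : Commute u ⁅v, v'⁆ := by
    rw [commutatorElement_def]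
    exact ((h3.mul_right h1).mul_right h3.inv_right).mul_right h1.inv_right
  have c3 : Commute ⁅v, v'⁆ ⁅u, u'⁆ := by
    rw [commutatorElement_def u u']
    exact ((c2.symm.mul_right c1.symm).mul_right c2.symm.inv_right).mul_right c1.symm.inv_right
  rw [comm_mul_left, e1, e2, c1.eq, mul_inv_cancel_right, c2.eq, mul_inv_cancel_right, c3.eq]

namespace Mid

variable {K G : Leg S p} {YE YL QE QL : Subgroup S} (h : Mid K G YE YL QE QL)
include h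

theorem yl_G {x : S} (hx : x ∈ YL) {y : S} (hy : y ∈ G.yb) : Commute y x := G.commute_qb_yb (h.YL_le hx) hy

theorem ye_K {x : S} (hx : x ∈ YE) {y : S} (hy : y ∈ K.yb) : Commute y x := K.commute_qb_yb (h.YE_le hx) hy

theorem G_A {y : S} (hy : y ∈ G.yb) : y ∈ K.qb ⊓ G.qb := ⟨h.G_le hy, G.yb_le_qb hy⟩

theorem K_A {y : S} (hy : y ∈ K.yb) : y ∈ K.qb ⊓ G.qb := ⟨K.yb_le_qb hy, h.K_le hy⟩

theorem decomp {a : S} (ha : a ∈ K.qb ⊓ G.qb) :
    ∃ k ∈ K.yb, ∃ g ∈ G.yb, ∃ d ∈ K.qb ⊓ G.qb, d ∈ QE ∧ d ∈ QL ∧ a = k * g * d := by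
  obtain ⟨k, hk, w, hw, rfl⟩ := h.splitL a ha
  have hwA : w ∈ K.qb ⊓ G.qb := (Subgroup.mul_mem_cancel_left _ (h.K_A hk)).1 ha
  obtain ⟨g, hg, d, hd, rfl⟩ := h.splitE w hwA
  exact ⟨k, hk, g, hg, d, (Subgroup.mul_mem_cancel_left _ (h.G_A hg)).1 hwA, hd,
    (Subgroup.mul_mem_cancel_left _ (h.G_QL hg)).1 hw, (mul_assoc _ _ _).symm⟩

theorem qG_split {w : S} (hw : w ∈ G.qb) : ∃ l ∈ YL, ∃ a ∈ K.qb ⊓ G.qb, w = l * a := by
  obtain ⟨l, hl, a, ha, rfl⟩ := h.sup_L w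
  exact ⟨l, hl, a, ⟨ha, (Subgroup.mul_mem_cancel_left _ (h.YL_le hl)).1 hw⟩, rfl⟩

theorem exists_x : ∃ x ∈ YE, x ∉ G.qb := by
  obtain ⟨s, hs⟩ := G.exists_not_qb
  obtain ⟨x, hx, w, hw, rfl⟩ := h.sup_E s
  exact ⟨x, hx, fun hxQ => hs (mul_mem hxQ hw)⟩

/-- On `Q_K ∩ Q_G` only the `G`-part is moved by `YE`. -/
theorem comm_A_YE {a : S} (ha : a ∈ K.qb ⊓ G.qb) {x : S} (hx : x ∈ YE) :
    ∃ y ∈ G.yb, ⁅a, x⁆ = ⁅y, x⁆ ∧ ⁅a, x⁆ ∈ K.cb := by
  obtain ⟨k, hk, g, hg, d, -, hdE, -, rfl⟩ := h.decomp ha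
  have hgc : ⁅g, x⁆ ∈ K.cb := by
    rw [← commutatorElement_inv]
    exact inv_mem (h.comm_E x hx g hg)
  have e : ⁅k * g * d, x⁆ = ⁅g, x⁆ := by
    rw [comm_mul_left, commutatorElement_eq_one_iff_commute.2 (h.QE_cent d hdE x hx).symm, mul_one,
      mul_inv_cancel, one_mul, comm_mul_left, commutatorElement_eq_one_iff_commute.2 (h.ye_K hx hk), mul_one,
      Subgroup.mem_center_iff.1 (K.cb_le_center hgc) k, mul_inv_cancel_right]
  exact ⟨g, hg, e, e ▸ hgc⟩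

/-- What the middle has in `Φ(Q)·(Y ∩ Z(G))` and in `Z(S)` is central. -/
theorem pb_le_cb {z : S} (hz : z ∈ Subgroup.center S) (hzp : z ∈ G.pb) : z ∈ G.cb := by
  obtain ⟨x, hx, hxQ⟩ := h.exists_x
  have hsplit : ∀ a ∈ G.qb, ∃ l ∈ YL, ∃ k ∈ K.yb, ∃ g ∈ G.yb, ∃ d ∈ K.qb ⊓ G.qb, d ∈ QE ∧ d ∈ QL ∧
      a = l * k * (g * d) := by
    intro a ha
    obtain ⟨l, hl, w, hw, rfl⟩ := h.qG_split ha
    obtain ⟨k, hk, g, hg, d, hd, hdE, hdL, rfl⟩ := h.decomp hw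
    exact ⟨l, hl, k, hk, g, hg, d, hd, hdE, hdL, by simp only [mul_assoc]⟩
  have hlk : ∀ {l k g d : S}, l ∈ YL → k ∈ K.yb → g ∈ G.yb → d ∈ K.qb ⊓ G.qb → d ∈ QL →
      Commute (l * k) (g * d) := fun hl hk hg hd hdL =>
    (((h.yl_G hl hg).mul_left (h.QL_cent _ hdL _ hl).symm).symm).mul_left
      (((G.commute_qb_yb (h.K_le hk) hg).mul_left (K.commute_qb_yb hd.1 hk).symm).symm)
  have hc : ∀ {z : S}, z ∈ Subgroup.center S → Commute z x := fun hz => (Subgroup.mem_center_iff.1 hz x).symm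
  refine G.pb_center hxQ (fun a ha b hb => ?_) (fun a ha => ?_) hz hzp
  · obtain ⟨l, hl, k, hk, g, hg, d, hd, hdE, hdL, rfl⟩ := hsplit a ha
    obtain ⟨l', hl', k', hk', g', hg', d', hd', hdE', hdL', rfl⟩ := hsplit b hb
    have hgd : ∀ {g d l k : S}, g ∈ G.yb → d ∈ K.qb ⊓ G.qb → d ∈ QL → l ∈ YL → k ∈ K.yb →
        Commute (g * d) (l * k) := fun hg hd hdL hl hk => (hlk hl hk hg hd hdL).symm
    rw [comm_parts (hlk hl hk hg' hd' hdL') (hgd hg hd hdL hl' hk') (hlk hl hk hg hd hdL)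
      (hlk hl' hk' hg' hd' hdL')]
    refine Commute.mul_left (hc ?_) ?_
    · have h1 : ∀ {l k : S}, l ∈ YL → k ∈ K.yb → ⁅k, l⁆ ∈ Subgroup.center S := fun hl hk =>
        G.cb_le_center (h.comm_L _ hl _ hk)
      have h1' : ⁅l, k'⁆ ∈ Subgroup.center S := by
        rw [← commutatorElement_inv]
        exact inv_mem (h1 hl hk')
      rw [comm_mul_left, comm_mul_right l, comm_mul_right k,
        commutatorElement_eq_one_iff_commute.2 (K.commute_yb hk hk'),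
        commutatorElement_eq_one_iff_commute.2 (h.YL_ab l hl l' hl'), mul_one, mul_inv_cancel, mul_one, one_mul]
      exact mul_mem ((inferInstance : (Subgroup.center S).Normal).conj_mem _ (h1 hl' hk) _)
        ((inferInstance : (Subgroup.center S).Normal).conj_mem _ h1' _)
    · have hgd2 : ⁅g * d, g' * d'⁆ = ⁅g, g'⁆ * ⁅d, d'⁆ :=
        comm_parts (G.commute_qb_yb hd'.2 hg) (G.commute_qb_yb hd.2 hg').symm (G.commute_qb_yb hd.2 hg)
          (G.commute_qb_yb hd'.2 hg')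
      rw [hgd2, commutatorElement_eq_one_iff_commute.2 (G.commute_yb hg hg'), one_mul, commutatorElement_def]
      have c1 := (h.QE_cent d hdE x hx).symm
      have c2 := (h.QE_cent d' hdE' x hx).symm
      exact ((c1.mul_left c2).mul_left c1.inv_left).mul_left c2.inv_left
  · obtain ⟨l, hl, k, hk, g, hg, d, hd, hdE, hdL, rfl⟩ := hsplit a ha
    have hkl : ⁅k, l⁆ ∈ Subgroup.center S := G.cb_le_center (h.comm_L l hl k hk)
    rw [(hlk hl hk hg hd hdL).mul_pow, (G.commute_qb_yb hd.2 hg).mul_pow, G.yb_pow hg, one_mul,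
      Fusion.mul_pow_of_central (Subgroup.mem_center_iff.1 hkl l).symm (Subgroup.mem_center_iff.1 hkl k).symm,
      h.YL_exp l hl, K.yb_pow hk, one_mul, one_mul]
    exact (hc (pow_mem hkl _)).mul_left ((h.QE_cent d hdE x hx).symm.pow_left p)

/-- Modulo `Φ(Q)·(Y ∩ Z(G))` the intersection of the cores has only central commutators. -/
theorem comm_A {a : S} (ha : a ∈ K.qb ⊓ G.qb) (s : S) : ∃ z ∈ Subgroup.center S, ⁅a, s⁆ * z⁻¹ ∈ G.pb := by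
  obtain ⟨x, hx, w, hw, rfl⟩ := h.sup_E s
  obtain ⟨-, -, -, hz⟩ := h.comm_A_YE ha hx
  refine ⟨⁅a, x⁆, K.cb_le_center hz, ?_⟩
  rw [comm_mul_right, Subgroup.mem_center_iff.1 (inv_mem (K.cb_le_center hz)),
    inv_mul_cancel_left]
  exact (inferInstance : G.pb.Normal).conj_mem _ (G.comm_mem_pb ha.2 hw) x

theorem comm_comm_A {a : S} (ha : a ∈ K.qb ⊓ G.qb) (s t : S) : ⁅⁅a, s⁆, t⁆ ∈ G.pb := by
  obtain ⟨z, hz, hp⟩ := h.comm_A ha s
  rw [show ⁅a, s⁆ = ⁅a, s⁆ * z⁻¹ * z by group, comm_mul_left,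
    commutatorElement_eq_one_iff_commute.2 (show Commute z t from (Subgroup.mem_center_iff.1 hz t).symm), mul_one,
    mul_inv_cancel, one_mul]
  generalize ⁅a, s⁆ * z⁻¹ = w at hp
  rw [commutatorElement_def, show w * t * w⁻¹ * t⁻¹ = w * (t * w⁻¹ * t⁻¹) by group]
  exact mul_mem hp ((inferInstance : G.pb.Normal).conj_mem _ (inv_mem hp) t)

variable [Finite S] [hp : Fact p.Prime]

/-- In characteristic three `S₀` is small at a middle vertex. -/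
theorem sZero_three (hp3 : p = 3) : sZero p S ≤ G.pb := by
  have hΦ : frattini S ≤ K.qb ⊓ G.qb := Solv.frattini_le (p := p) _
    (fun a b => ⟨K.comm_mem_qb a b, G.comm_mem_qb a b⟩) fun a => ⟨K.pow_mem_qb a, G.pow_mem_qb a⟩
  rw [sZero, if_neg (show p ≠ 2 by omega), if_pos hp3]
  exact sup_le (comm_comm_le fun a ha => h.comm_comm_A (hΦ ha))
    (frattini_frattini_le (p := p) (fun a ha b hb => G.comm_mem_pb (hΦ ha).2 (hΦ hb).2)
      fun a ha => G.pow_mem_pb (hΦ ha).2)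

end Mid

end Cfsg.Agent.PushUp
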