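import Cfsg.Agent.Lib.PushUp.Fam.Core

/-!
# Paired and unpaired groups over `S`
-/

set_option autoImplicit false

open scoped commutatorElement

namespace Cfsg.Agent.PushUp

open Cfsg

universe u

namespace Leg

variable {S : Type u} [Group S] [Finite S] {p : ℕ}

/-- The group has a partner whose `Y` leaves the core. -/
def Paired (L : Leg S p) : Prop := ∃ L' : Leg S p, ¬ L'.yb ≤ L.qb

omit [Finite S] in
theorem paired_symm {L L' : Leg S p} (h : ¬ L'.yb ≤ L.qb) : ¬ L.yb ≤ L'.qb := by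
  intro hle
  obtain ⟨x, hx, hxQ⟩ := SetLike.not_le_iff_exists.1 h
  obtain ⟨y, hy, hyz⟩ := L.exists_not_center
  exact hyz (L.cent' hxQ hy (L'.commute_qb_yb (hle hy) hx).symm)

omit [Finite S] in
theorem paired_inf {L L' : Leg S p} (h : ¬ L'.yb ≤ L.qb) : L'.yb ⊓ L.qb = Subgroup.center S := by
  obtain ⟨y, hy, hyQ⟩ := SetLike.not_le_iff_exists.1 (paired_symm h)
  exact le_antisymm (fun x hx => L'.cent' hyQ hx.1 (L.commute_qb_yb hx.2 hy).symm)
    (le_inf L'.center_le_yb L.center_le_qb)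

theorem paired_le {L L' : Leg S p} (h : ¬ L'.yb ≤ L.qb) : L'.q ≤ L.q := by
  rw [← L'.idxY, ← paired_inf h, inf_comm, Subgroup.inf_relIndex_right, ← L.idx, ← Subgroup.relIndex_top_right]
  exact Subgroup.relIndex_le_of_le_right le_top Subgroup.index_ne_zero_of_finite

theorem paired_sup {L L' : Leg S p} (h : ¬ L'.yb ≤ L.qb) : L'.yb ⊔ L.qb = ⊤ := by
  have hq : L'.q = L.q := le_antisymm (paired_le h) (paired_le (paired_symm h))
  have h1 : L.qb.relIndex (L'.yb ⊔ L.qb : Subgroup S) = L.q := by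
    rw [Subgroup.relIndex_sup_right, ← Subgroup.inf_relIndex_right, inf_comm, paired_inf h, L'.idxY, hq]
  have h2 := Subgroup.relIndex_mul_index (le_sup_right : L.qb ≤ L'.yb ⊔ L.qb)
  rw [h1, L.idx] at h2
  refine Subgroup.index_eq_one.1 ?_
  have := L.two_le
  exact (Nat.mul_eq_left (by omega)).1 h2

/-- `S = X · Y · (Q ∩ Q')` for a pair. -/
theorem paired_split {L L' : Leg S p} (h : ¬ L'.yb ≤ L.qb) (s : S) :
    ∃ x ∈ L'.yb, ∃ y ∈ L.yb, ∃ r, r ∈ L.qb ∧ r ∈ L'.qb ∧ s = x * y * r := by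
  obtain ⟨x, hx, w, hw, rfl⟩ := Subgroup.mem_sup_of_normal_left.1 ((paired_sup h).ge (Subgroup.mem_top s))
  obtain ⟨y, hy, r, hr, rfl⟩ :=
    Subgroup.mem_sup_of_normal_left.1 ((paired_sup (paired_symm h)).ge (Subgroup.mem_top w))
  exact ⟨x, hx, y, hy, r, (Subgroup.mul_mem_cancel_left _ (L.yb_le_qb hy)).1 hw, hr, (mul_assoc _ _ _).symm⟩

theorem paired_pb_center {L L' : Leg S p} (h : ¬ L'.yb ≤ L.qb) {z : S} (hz : z ∈ Subgroup.center S)
    (hzp : z ∈ L.pb) : z ∈ L.cb := by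
  obtain ⟨x, hx, hxQ⟩ := SetLike.not_le_iff_exists.1 h
  have hsplit : ∀ a ∈ L.qb, ∃ y ∈ L.yb, ∃ r, r ∈ L.qb ∧ Commute r x ∧ a = y * r := by
    intro a ha
    obtain ⟨y, hy, r, hr, rfl⟩ :=
      Subgroup.mem_sup_of_normal_left.1 ((paired_sup (paired_symm h)).ge (Subgroup.mem_top a))
    exact ⟨y, hy, r, (Subgroup.mul_mem_cancel_left _ (L.yb_le_qb hy)).1 ha, (L'.commute_qb_yb hr hx).symm, rfl⟩
  refine L.pb_center hxQ (fun a ha b hb => ?_) (fun a ha => ?_) hz hzp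
  · obtain ⟨y, hy, r, hr, hrx, rfl⟩ := hsplit a ha
    obtain ⟨y', hy', r', hr', hrx', rfl⟩ := hsplit b hb
    have e : ⁅y * r, y' * r'⁆ = ⁅r, r'⁆ := by
      have c1 : Commute y r := L.commute_qb_yb hr hy
      have c2 : Commute y r' := L.commute_qb_yb hr' hy
      have c3 : Commute y' r := L.commute_qb_yb hr hy'
      have c4 : Commute y' r' := L.commute_qb_yb hr' hy'
      have c5 : Commute y y' := L.commute_yb hy hy'
      rw [commutatorElement_def, commutatorElement_def]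
      calc y * r * (y' * r') * (y * r)⁻¹ * (y' * r')⁻¹
          = y * (r * y') * r' * (r⁻¹ * y⁻¹) * (r'⁻¹ * y'⁻¹) := by group
        _ = y * (y' * r) * r' * (y⁻¹ * r⁻¹) * (y'⁻¹ * r'⁻¹) := by
          rw [c3.symm.eq, (c1.inv_inv).eq, (c4.inv_inv).eq]
        _ = (y * y') * (r * r' * y⁻¹) * r⁻¹ * y'⁻¹ * r'⁻¹ := by group
        _ = (y * y') * (y⁻¹ * (r * r')) * r⁻¹ * y'⁻¹ * r'⁻¹ := by rw [((c1.mul_right c2).inv_left).eq]
        _ = (y' * y * y⁻¹) * (r * r' * r⁻¹ * y'⁻¹) * r'⁻¹ := by rw [c5.eq]; group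
        _ = y' * (y'⁻¹ * (r * r' * r⁻¹)) * r'⁻¹ := by
          rw [mul_inv_cancel_right, (((c3.mul_right c4).mul_right c3.inv_right).inv_left).eq]
        _ = r * r' * r⁻¹ * r'⁻¹ := by group
    rw [e, commutatorElement_def]
    exact ((hrx.mul_left hrx').mul_left hrx.inv_left).mul_left hrx'.inv_left
  · obtain ⟨y, hy, r, hr, hrx, rfl⟩ := hsplit a ha
    rw [(L.commute_qb_yb hr hy).mul_pow, L.yb_pow hy, one_mul]
    exact hrx.pow_left p

/-- For a pair, `S₀ ∩ Z(S)` is central. -/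
theorem paired_sZero [hp : Fact p.Prime] {L : Leg S p} (hL : L.Paired) :
    sZero p S ⊓ Subgroup.center S ≤ L.cb := by
  obtain ⟨L', h⟩ := hL
  refine fun z hz => paired_pb_center h hz.2 (?_ : z ∈ L.pb)
  set N := L.pb
  set π := QuotientGroup.mk' N
  have hπ : ∀ x, π x = 1 ↔ x ∈ N := fun x => QuotientGroup.eq_one_iff x
  set C := (Subgroup.center S).map π
  have hcen : ∀ c ∈ C, ∀ w : S ⧸ N, Commute c w := by
    rintro _ ⟨c, hc, rfl⟩ w
    obtain ⟨t, rfl⟩ := QuotientGroup.mk'_surjective N w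
    exact (show Commute c t from (Subgroup.mem_center_iff.1 hc t).symm).map π
  have hXY : ∀ x ∈ L'.yb, ∀ y ∈ L.yb, ⁅x, y⁆ ∈ Subgroup.center S := fun x hx y _ => L'.comm_yb_center hx y
  -- the images of the three parts commute modulo the image of `Z(S)`
  have hr : ∀ r, r ∈ L.qb → r ∈ L'.qb → π r ∈ Subgroup.center (S ⧸ N) := by
    intro r hr hr'
    refine Subgroup.mem_center_iff.2 fun w => ?_
    obtain ⟨t, rfl⟩ := QuotientGroup.mk'_surjective N w
    obtain ⟨x, hx, y, hy, r1, hr1, -, rfl⟩ := paired_split h t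
    have c3 : Commute (π r1) (π r) := by
      rw [← commutatorElement_eq_one_iff_commute, ← map_commutatorElement, hπ]
      exact L.comm_mem_pb hr1 hr
    rw [map_mul, map_mul]
    exact (((L'.commute_qb_yb hr' hx).map π).mul_left ((L.commute_qb_yb hr hy).map π)).mul_left c3
  have hcomm : ∀ a b : S, π ⁅a, b⁆ ∈ C := by
    intro a b
    obtain ⟨x, hx, y, hy, r, hr1, hr2, rfl⟩ := paired_split h a
    obtain ⟨x', hx', y', hy', r', hr1', hr2', rfl⟩ := paired_split h b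
    have e1 : ∀ a b : S, π b ∈ Subgroup.center (S ⧸ N) → ∀ c, π ⁅a * b, c⁆ = π ⁅a, c⁆ := fun a b hb c => by
      simp only [map_commutatorElement, map_mul]
      simp only [commutatorElement_def, mul_inv_rev]
      have hc : Commute (π b) (π c) := (Subgroup.mem_center_iff.1 hb (π c)).symm
      calc π a * π b * π c * ((π b)⁻¹ * (π a)⁻¹) * (π c)⁻¹
          = π a * (π b * π c * (π b)⁻¹) * (π a)⁻¹ * (π c)⁻¹ := by group
        _ = _ := by rw [hc.eq, mul_inv_cancel_right]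
    have e2 : ∀ a b : S, π b ∈ Subgroup.center (S ⧸ N) → ∀ c, π ⁅c, a * b⁆ = π ⁅c, a⁆ := fun a b hb c => by
      rw [← commutatorElement_inv, ← commutatorElement_inv a c, map_inv, map_inv, e1 a b hb c]
    rw [e1 _ _ (hr r hr1 hr2), e2 _ _ (hr r' hr1' hr2')]
    refine ⟨⁅x * y, x' * y'⁆, ?_, rfl⟩
    have k1 : ⁅x, x'⁆ = 1 := commutatorElement_eq_one_iff_commute.2 (L'.commute_yb hx hx')
    have k2 : ⁅y, y'⁆ = 1 := commutatorElement_eq_one_iff_commute.2 (L.commute_yb hy hy')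
    have k3 := hXY x hx y' hy'
    have k4 : ⁅y, x'⁆ ∈ Subgroup.center S := L.comm_yb_center hy x'
    have e3 : ∀ a b c : S, ⁅a * b, c⁆ = a * ⁅b, c⁆ * a⁻¹ * ⁅a, c⁆ := fun a b c => by
      simp only [commutatorElement_def]; group
    have e4 : ∀ a b c : S, ⁅a, b * c⁆ = ⁅a, b⁆ * (b * ⁅a, c⁆ * b⁻¹) := fun a b c => by
      simp only [commutatorElement_def]; group
    have hc0 : ∀ {z : S}, z ∈ Subgroup.center S → ∀ g, g * z * g⁻¹ = z := fun hz g => by
      rw [Subgroup.mem_center_iff.1 hz g, mul_inv_cancel_right]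
    rw [e3, e4, e4, k1, k2, mul_one, one_mul]
    simp only [mul_inv_cancel, mul_one, hc0 k3, hc0 k4]
    exact mul_mem k4 k3
  have hpow : ∀ a : S, π (a ^ p) ∈ C ∧ (p ≠ 2 → a ^ p ∈ N) := by
    intro a
    obtain ⟨x, hx, y, hy, r, hr1, hr2, rfl⟩ := paired_split h a
    have hz' : ⁅y, x⁆ ∈ Subgroup.center S := L.comm_yb_center hy x
    have e : π ((x * y * r) ^ p) = π (⁅y, x⁆ ^ p.choose 2) := by
      have hc : Commute (π (x * y)) (π r) := (Subgroup.mem_center_iff.1 (hr r hr1 hr2) _)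
      rw [map_pow, map_mul, hc.mul_pow, ← map_pow, ← map_pow π r, (hπ _).2 (L.pow_mem_pb hr1), mul_one,
        Fusion.mul_pow_of_central ((Subgroup.mem_center_iff.1 hz' x).symm) ((Subgroup.mem_center_iff.1 hz' y).symm),
        L'.yb_pow hx, L.yb_pow hy, one_mul, one_mul]
    refine ⟨e ▸ ⟨_, pow_mem hz' _, rfl⟩, fun hp2 => ?_⟩
    obtain ⟨j, hj⟩ := hp.out.dvd_choose_self (by norm_num : (2 : ℕ) ≠ 0)
      (lt_of_le_of_ne hp.out.two_le (Ne.symm hp2))
    rw [← hπ, e, hj, pow_mul, L.yb_pow (L.center_le_yb hz'), one_pow, map_one]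
  refine sZero_le (p := p) N (fun a b c => ?_) (fun a c => ?_) (fun a => ?_) (fun h2 _ a => (hpow a).2 h2) hz.1
  · rw [← hπ, map_commutatorElement, commutatorElement_eq_one_iff_commute]
    exact hcen _ (hcomm a b) _
  · rw [← hπ, map_commutatorElement, commutatorElement_eq_one_iff_commute]
    exact hcen _ (hpow a).1 _
  · obtain ⟨c, hc, hce⟩ := (hpow a).1
    rw [← hπ, map_pow, ← hce, ← map_pow, L.yb_pow (L.center_le_yb hc), map_one]

/-- An unpaired group has central commutators at a paired one. -/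
theorem paired_comm {L H : Leg S p} (hL : L.Paired) (hH : ¬ H.Paired) {y : S} (hy : y ∈ H.yb) (s : S) :
    ⁅y, s⁆ ∈ L.cb := by
  obtain ⟨L', h⟩ := hL
  simp only [Paired, not_exists, not_not] at hH
  have hyL : ∀ K : Leg S p, y ∈ K.qb := fun K => K.mem_qb fun w hw => (H.commute_qb_yb (hH K hw) hy).symm
  obtain ⟨x, hx, y0, hy0, r, hr, -, rfl⟩ := paired_split h s
  refine paired_pb_center h (H.comm_yb_center hy _) ?_
  have c1 : Commute y (x * y0) := (L'.commute_qb_yb (hyL L') hx).symm.mul_right (L.commute_qb_yb (hyL L) hy0).symm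
  have e : ⁅y, x * y0 * r⁆ = x * y0 * ⁅y, r⁆ * (x * y0)⁻¹ := by
    rw [show ⁅y, x * y0 * r⁆ = ⁅y, x * y0⁆ * (x * y0 * ⁅y, r⁆ * (x * y0)⁻¹) by
      simp only [commutatorElement_def]; group, commutatorElement_eq_one_iff_commute.2 c1, one_mul]
  rw [e]
  exact (inferInstance : L.pb.Normal).conj_mem _ (L.comm_mem_pb (hyL L) hr) _

end Leg

end Cfsg.Agent.PushUp
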