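import Cfsg.Agent.Lib.PushUp.Fam.Window
import Cfsg.Agent.Lib.PushUp.ChiefFactors

/-!
# Critical paths of two edges in the amalgam of a family
-/

set_option autoImplicit false

open scoped commutatorElement

namespace Cfsg.Agent.PushUp.Fam

open Cfsg Cfsg.Agent.PushUp

universe u

section Quot

variable {H : Type*} [Group H]

theorem comm_pow_left {a b : H} (h : ∀ k : ℕ, ⁅a ^ k, b⁆ ∈ Subgroup.center H) (k : ℕ) :
    ⁅a ^ k, b⁆ = ⁅a, b⁆ ^ k := by
  induction k with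
  | zero => simp
  | succ k ih =>
    rw [pow_succ', comm_mul_left, Subgroup.mem_center_iff.1 (h k) a, mul_inv_cancel_right, ih, pow_succ]

end Quot

variable {S : Type u} [Group S] [Finite S] {p : ℕ} [hp : Fact p.Prime] {B : Leg S p → Prop}

namespace Win

variable (W : Win B) (hmin : ShortPaths B 2)
include W hmin

omit hp in
/-- In characteristic two there is no window. -/
theorem no_char_two (hp2 : p = 2) : False := by
  have h := W.mid hmin
  obtain ⟨x, hx, hxQ⟩ := h.exists_x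
  obtain ⟨l, hl, hxl⟩ := W.exists_not_eb hmin hxQ
  have hx2 : x * x = 1 := by have := h.YE_exp x hx; rwa [hp2, pow_two] at this
  have hl2 : l * l = 1 := by have := h.YL_exp l hl; rwa [hp2, pow_two] at this
  have hx' : x⁻¹ = x := inv_eq_of_mul_eq_one_right hx2
  have hl' : l⁻¹ = l := inv_eq_of_mul_eq_one_right hl2
  have hA : ⁅x, l⁆ ∈ W.K₁.qb ⊓ W.G₁.qb := ⟨W.K₁.comm_mem_qb x l, W.G₁.comm_mem_qb x l⟩
  have e1 : x * ⁅x, l⁆ * x⁻¹ = ⁅x, l⁆⁻¹ := by
    simp only [commutatorElement_def, hx', hl', mul_inv_rev, ← mul_assoc, hx2, one_mul]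
  have e2 : l * ⁅x, l⁆ * l⁻¹ = ⁅x, l⁆⁻¹ := by
    simp only [commutatorElement_def, hx', hl', mul_inv_rev, mul_assoc, hl2, mul_one]
  obtain ⟨-, -, -, hc⟩ := h.comm_A_YE hA hx
  have e3 : ⁅⁅x, l⁆, l⁆ = ⁅⁅x, l⁆, x⁆ := by
    rw [show ⁅⁅x, l⁆, l⁆ = ⁅x, l⁆ * (l * ⁅x, l⁆ * l⁻¹)⁻¹ by simp only [commutatorElement_def]; group,
      show ⁅⁅x, l⁆, x⁆ = ⁅x, l⁆ * (x * ⁅x, l⁆ * x⁻¹)⁻¹ by simp only [commutatorElement_def]; group, e1, e2]
  obtain ⟨k, hk, g, hg, d, hd, -, hdL, he⟩ := h.decomp hA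
  rw [← e3, he, comm_mul_left, commutatorElement_eq_one_iff_commute.2 (h.QL_cent d hdL l hl).symm, mul_one,
    mul_inv_cancel, one_mul, comm_mul_left, commutatorElement_eq_one_iff_commute.2 (h.yl_G hl hg), mul_one,
    mul_inv_cancel, one_mul] at hc
  have hlQ : l ∉ W.K₁.qb := fun hlK => hxl (by
    rw [← commutatorElement_inv]
    exact inv_mem (W.comm_A_eb hmin ⟨hlK, h.YL_le hl⟩ x))
  have hkG : k ∈ W.G₁.yb := W.G₁.center_le_yb (W.K₁.cent hlQ hk hc)
  exact hxl (he ▸ mul_mem (mul_mem ⟨h.G_A hkG, h.G_QL hkG⟩ ⟨h.G_A hg, h.G_QL hg⟩) ⟨hd, hdL⟩)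

omit hp in
theorem sect (hq : W.K₁.q = W.G₁.q) : SpreadSect W.G₁.e.range W.G₁.Q W.G₁.M W.G₁.Q W.eG
    ((W.K₁.qb ⊓ W.G₁.qb).map W.G₁.e) W.G₁.q := by
  have h := W.mid hmin
  haveI := W.eG_normal hmin
  have hQ : ∀ x ∈ W.G₁.Q, ∃ a ∈ W.G₁.qb, W.G₁.e a = x := fun x hx => W.G₁.map_qb.ge hx
  have hcomm : ∀ x ∈ W.G₁.Q, ∀ y ∈ W.G₁.Q, ⁅x, y⁆ ∈ W.eG := fun x hx y hy => by
    obtain ⟨a, ha, rfl⟩ := hQ x hx
    obtain ⟨b, hb, rfl⟩ := hQ y hy
    exact ⟨⁅a, b⁆, ⟨⟨W.K₁.comm_mem_qb a b, W.G₁.comm_mem_qb a b⟩, h.comm_QL a ha b hb⟩, map_commutatorElement _ _ _⟩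
  have hmem : ∀ {s : S}, W.G₁.e s ∈ W.eG → s ∈ W.eb := fun hs => (Subgroup.mem_map_iff_mem W.G₁.inj).1 hs
  refine
    { Wn := W.G₁.pup.Qn
      Cn := W.eG_normal hmin
      hCA := Subgroup.map_mono inf_le_left
      hAW := (Subgroup.map_mono inf_le_right).trans W.G₁.map_qb.le
      comm := hcomm
      Q_triv := fun x hx w hw => hcomm w hw x hx
      idxA := ?_
      idxW := ?_
      fix := ?_
      free := ?_
      ti := ?_ }
  · rw [Subgroup.relIndex_map_map_of_injective _ _ W.G₁.inj, eb, midE, inf_comm, Subgroup.inf_relIndex_right, pull,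
      Subgroup.relIndex_comap, Dart.tgt, map_qI, ← hq, W.q_K_L hmin]
    set A1 := ((W.K₁.qb ⊓ W.G₁.qb).map (bs W.c.f)).comap (bs W.c'.f)
    have hle : (W.K₁.qb ⊓ W.G₁.qb).map (bs W.c.f) ≤ (bs W.c'.f).range := by
      rintro _ ⟨a, ha, rfl⟩
      have h1 : bs W.c.f a ∈ W.c.tgt (qI B) := by rw [Dart.tgt, map_qI]; exact ⟨a, ha.2, rfl⟩
      rw [← W.tc.link.src_eq qI_normal] at h1
      exact Q_sh _ _ h1
    have h2 : A1 ⊔ W.c'.r.1.qb = ⊤ := eq_top_iff.2 fun s _ => by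
      obtain ⟨z, hz, y, hy, he⟩ := exists_split hmin le_rfl W.crit_c (x := bs W.c'.f s) ⟨s, rfl⟩
      change z ∈ W.c.src (yI B) at hz
      rw [Dart.src, map_yI] at hz
      obtain ⟨k, hk, rfl⟩ := hz
      change y ∈ W.c'.tgt (qI B) at hy
      rw [Dart.tgt, map_qI] at hy
      obtain ⟨w, hw, rfl⟩ := hy
      have h3 : s * w⁻¹ ∈ A1 := by
        show bs W.c'.f (s * w⁻¹) ∈ (W.K₁.qb ⊓ W.G₁.qb).map (bs W.c.f)
        rw [map_mul, map_inv, he, mul_inv_cancel_right]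
        exact ⟨k, h.K_A hk, rfl⟩
      have h4 : s * w⁻¹ * w ∈ A1 ⊔ W.c'.r.1.qb :=
        mul_mem (Subgroup.mem_sup_left h3) (Subgroup.mem_sup_right hw)
      rwa [inv_mul_cancel_right] at h4
    rw [← Subgroup.map_comap_eq_self hle, Subgroup.relIndex_map_map_of_injective _ _ (bs_injective _),
      ← Subgroup.relIndex_sup_right, h2, Subgroup.relIndex_top_right, W.c'.r.1.idx]
  · rw [← W.G₁.map_qb, Subgroup.relIndex_map_map_of_injective _ _ W.G₁.inj, W.relIndex_A hmin, hq]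
  · rintro _ ⟨s, rfl⟩ _ ⟨a, ha, rfl⟩
    rw [← map_commutatorElement]
    exact ⟨_, W.comm_A_eb hmin ha s, rfl⟩
  · rintro _ ⟨s, rfl⟩ hsQ x hx hxs
    obtain ⟨w, hw, rfl⟩ := hQ x hx
    set D := W.G₁.qb ⊓ (modCent W.eG (Subgroup.zpowers (W.G₁.e s))).comap W.G₁.e
    have hdd := W.disp hmin (s := s) hsQ D inf_le_left fun d hd => hmem (by
      rw [map_commutatorElement]
      exact mem_modCent.1 hd.2 _ (Subgroup.mem_zpowers _))
    have hAD : W.K₁.qb ⊓ W.G₁.qb ≤ D := fun a ha => ⟨ha.2, mem_modCent_zpowers (by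
      rw [← map_commutatorElement]
      exact ⟨_, W.comm_A_eb hmin ha s, rfl⟩)⟩
    have h2 := Subgroup.relIndex_mul_relIndex _ D W.G₁.qb hAD inf_le_left
    rw [W.relIndex_A hmin, hq] at h2
    have h3 : (W.K₁.qb ⊓ W.G₁.qb).relIndex D = 1 := by
      have hp1 := Nat.pos_of_ne_zero (relIndex_ne_zero' (W.K₁.qb ⊓ W.G₁.qb) D)
      by_contra hne
      have h5 : 2 * W.G₁.q ≤ (W.K₁.qb ⊓ W.G₁.qb).relIndex D * D.relIndex W.G₁.qb :=
        Nat.mul_le_mul (by omega) hdd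
      have := W.G₁.two_le
      omega
    exact ⟨w, Subgroup.relIndex_eq_one.1 h3 ⟨hw, mem_modCent_zpowers hxs⟩, rfl⟩
  · rintro g hg _ ⟨a, ha, rfl⟩ hga
    obtain ⟨a', ha', hae⟩ := hga
    have htop : modCent W.eG (Subgroup.zpowers (W.G₁.e a)) = ⊤ := by
      refine W.G₁.pup.top _ ?_ fun hle =>
        W.G₁.pup.conj_S_not_le (g := g⁻¹) (fun h' => hg ((Subgroup.inv_mem_iff _).1 h')) ?_
      · rintro _ ⟨s, rfl⟩
        refine mem_modCent_zpowers ?_
        rw [← commutatorElement_inv, ← map_commutatorElement]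
        exact inv_mem ⟨_, W.comm_A_eb hmin ha s, rfl⟩
      · rintro _ ⟨_, ⟨s, rfl⟩, rfl⟩
        refine hle (mem_modCent_zpowers ?_)
        have h1 : ⁅W.G₁.e s, W.G₁.e a'⁆ ∈ W.eG := by
          rw [← commutatorElement_inv, ← map_commutatorElement]
          exact inv_mem ⟨_, W.comm_A_eb hmin ha' s, rfl⟩
        have h2 := (W.eG_normal hmin).conj_mem _ h1 g⁻¹
        rw [hae] at h2
        simpa [commutatorElement_def, mul_assoc] using h2
    obtain ⟨-, gc, -, hf⟩ := W.tc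
    obtain ⟨k, hk, g', hg', d, hd, -, hdL, rfl⟩ := h.decomp ha
    have hw : g' * d ∈ W.eb := mul_mem ⟨h.G_A hg', h.G_QL hg'⟩ ⟨hd, hdL⟩
    have h1 : ⁅W.G₁.e (k * (g' * d)), gc⁆ ∈ W.eG := by
      rw [← mul_assoc, ← commutatorElement_inv]
      exact inv_mem (mem_modCent.1 (htop.ge (Subgroup.mem_top gc)) _ (Subgroup.mem_zpowers _))
    rw [map_mul W.G₁.e k, comm_mul_left] at h1
    have h2 : ⁅W.G₁.e (g' * d), gc⁆ ∈ W.eG := by
      have h3 := mul_mem (⟨_, hw, rfl⟩ : W.G₁.e (g' * d) ∈ W.eG)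
        ((W.eG_normal hmin).conj_mem _ (inv_mem (⟨_, hw, rfl⟩ : W.G₁.e (g' * d) ∈ W.eG)) gc)
      simpa [commutatorElement_def, mul_assoc] using h3
    rw [Subgroup.mul_mem_cancel_left _ ((W.eG_normal hmin).conj_mem _ h2 _)] at h1
    have hkL := W.push hmin hf (n := gc) (s := 1) (by rw [map_one, mul_one]) hk h1
    refine ⟨k * g' * d, ?_, rfl⟩
    rw [mul_assoc]
    exact mul_mem ⟨h.K_A hk, hkL⟩ hw

/-- In characteristic at least five `S₀` is small at the middle of a window. -/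
theorem sZero_large (hp5 : 5 ≤ p) (hq : W.K₁.q = W.G₁.q) : sZero p S ≤ W.G₁.pb := by
  have h := W.mid hmin
  have hm := hp.out
  set L := W.G₁ with hL
  set A := W.K₁.qb ⊓ L.qb with hA
  -- an element normalizing `S` which acts as a diagonal matrix
  have h2F : ∀ {F : Type} [Field F], (p : F) = 0 → (2 : F) ≠ 0 := fun {F} _ hF h0 => by
    obtain ⟨m, hm'⟩ := hm.odd_of_ne_two (by omega)
    have h6 : ((p : ℕ) : F) = ((2 * m + 1 : ℕ) : F) := congrArg (Nat.cast (R := F)) hm'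
    rw [hF, Nat.cast_add, Nat.cast_mul, Nat.cast_ofNat, h0, zero_mul, zero_add, Nat.cast_one] at h6
    exact one_ne_zero h6.symm
  have h2 : (2 : L.F) ≠ 0 := h2F L.char
  obtain ⟨x₀, hx₀⟩ := L.coord.surj ⟨!![(2 : L.F), 0; 0, 2⁻¹], by simp [Matrix.det_fin_two, h2]⟩
  have hx₀M : x₀ ∈ L.M := (L.coord.mem_M _).2 (by simp [hx₀])
  obtain ⟨t, ht, htR⟩ := L.hnorm x₀ hx₀M
  rw [hx₀] at htR
  have htM : t ∈ L.M := (L.coord.mem_M _).2 (by simp [htR])
  obtain ⟨σ, hσ⟩ := L.exists_aut ht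
  -- the section at the middle
  obtain ⟨R', c, hR', hc⟩ := (W.sect hmin hq).exists_nat L.pup L.hg L.hs₁ L.hs₁Q L.hKn L.hKM L.htor L.F rfl
  obtain ⟨θ, hθ⟩ := L.coord.rigid hR' L.hs₁ (fun H hS hc' => L.gen L.hg H hS hc')
  have hsec : ∀ {w : S}, w ∈ L.qb → (w ∈ A ↔ c (L.e w) 1 = 0) := by
    intro w hw
    have hconj : L.s₁ * L.e w * L.s₁⁻¹ ∈ L.Q := L.pup.Qn.conj_mem _ hw _
    have h1 := hc.conj L.s₁ _ hw
    rw [hR'.one] at h1
    constructor
    · intro hwA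
      obtain ⟨s, hs⟩ := L.hs₁
      have h3 : ⁅L.e w, L.s₁⁆ ∈ W.eG := by
        rw [← hs, ← map_commutatorElement]
        exact ⟨_, W.comm_A_eb hmin hwA s, rfl⟩
      have h4 : c (L.s₁ * L.e w * L.s₁⁻¹) = c (L.e w) := by
        rw [hc.eq_iff hconj hw, show L.s₁ * L.e w * L.s₁⁻¹ * (L.e w)⁻¹ = ⁅L.e w, L.s₁⁆⁻¹ by
          simp only [commutatorElement_def]; group]
        exact inv_mem h3
      rw [h4] at h1
      have h5 := congrFun h1 0
      rw [(u_mulVec 1 _).1, one_mul] at h5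
      linear_combination (norm := ring_nf) -h5
    · intro h0
      have h4 : c (L.s₁ * L.e w * L.s₁⁻¹) = c (L.e w) := h1.trans (funext fun i => by
        fin_cases i
        · show (NatSL2.u (1 : L.F) : Matrix (Fin 2) (Fin 2) L.F).mulVec (c (L.e w)) 0 = c (L.e w) 0
          rw [(u_mulVec 1 _).1, h0, mul_zero, add_zero]
        · exact (u_mulVec 1 _).2)
      rw [hc.eq_iff hconj hw] at h4
      have h5 : ⁅L.e w, L.s₁⁆ ∈ W.eG := by
        rw [show ⁅L.e w, L.s₁⁆ = (L.s₁ * L.e w * L.s₁⁻¹ * (L.e w)⁻¹)⁻¹ by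
          simp only [commutatorElement_def]; group]
        exact inv_mem h4
      exact (Subgroup.mem_map_iff_mem L.inj).1 ((W.sect hmin hq).free L.s₁ L.hs₁ L.hs₁Q _ hw h5)
  have hσQ : ∀ {w : S}, w ∈ L.qb → σ w ∈ L.qb := fun {w} hw => by
    show L.e (σ w) ∈ L.Q
    rw [hσ]
    exact L.pup.Qn.conj_mem _ hw t
  have hσA : ∀ {x : S}, x ∈ L.qb → σ x * σ x * x⁻¹ ∈ A := by
    intro x hx
    have h2x := mul_mem (hσQ hx) (hσQ hx)
    have hxi := inv_mem hx
    refine (hsec (mul_mem h2x hxi)).2 ?_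
    have h3 : c (L.e (σ x)) 1 = (2 : L.F)⁻¹ * c (L.e x) 1 := by
      rw [hσ, hc.conj t _ hx, hθ, MonoidHom.comp_apply, htR]
      simp only [Matrix.mulVec, dotProduct, Fin.sum_univ_two]
      show θ 0 * _ + θ (2 : L.F)⁻¹ * _ = _
      rw [map_zero, zero_mul, zero_add, map_inv₀, map_ofNat]
    rw [map_mul, map_mul, map_inv, hc.mul _ (L.pup.Qn |> fun _ => L.map_qb.le ⟨_, h2x, map_mul _ _ _⟩) _
      (inv_mem hx), hc.mul _ (hσQ hx) _ (hσQ hx), hc.map_inv hx]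
    simp only [Pi.add_apply, Pi.neg_apply, h3]
    field_simp
    ring
  have hσZ : ∀ {z : S}, z ∈ Subgroup.center S → σ z * (z * z)⁻¹ ∈ L.pb := by
    intro z hz
    have hzY : L.e z ∈ L.Y := L.center_le_yb hz
    have hσY : L.e (σ z) ∈ L.Y := by rw [hσ]; exact L.pup.Yn.conj_mem _ hzY t
    refine L.cb_le_pb (show L.e (σ z * (z * z)⁻¹) ∈ cenIn L.Y from ?_)
    rw [map_mul, map_inv, map_mul, ← L.sect.eq_iff hσY (mul_mem hzY hzY), L.sect.mul _ hzY _ hzY, hσ,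
      L.sect.conj t _ hzY, htR]
    funext i
    fin_cases i
    · simp [Matrix.mulVec, dotProduct, Fin.sum_univ_two, two_mul]
    · simp [Matrix.mulVec, dotProduct, Fin.sum_univ_two, L.second_zero (L.e_mem_zS.2 hz)]
  have hσS : ∀ s : S, (s ^ 4)⁻¹ * σ s ∈ L.qb := by
    intro s
    obtain ⟨a, ha⟩ := L.coord.upper _ (L.e_mem s)
    refine L.coord.ker_S _ (L.e_mem _) ?_
    rw [map_mul, map_mul, map_inv, map_inv, L.upper_pow ha, hσ, L.coord.conj_upper htM ha, htR]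
    simp only [inv_mul_eq_one]
    congr 1
    norm_num
  have hσP : ∀ {z : S}, z ∈ L.pb → σ z ∈ L.pb := fun {z} hz => by
    show L.e (σ z) ∈ L.pG
    rw [hσ]
    exact L.pG_normal.conj_mem _ hz t
  -- modulo `Φ(Q)·(Y ∩ Z(G))`
  set N := L.pb with hN
  set π := QuotientGroup.mk' N
  have hπ : ∀ x, π x = 1 ↔ x ∈ N := fun x => QuotientGroup.eq_one_iff x
  have hsurj : Function.Surjective π := QuotientGroup.mk'_surjective N
  have hZc : ∀ {z : S}, z ∈ Subgroup.center S → π z ∈ Subgroup.center (S ⧸ N) := fun {z} hz => by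
    refine Subgroup.mem_center_iff.2 fun w => ?_
    obtain ⟨v, rfl⟩ := hsurj w
    rw [← map_mul, ← map_mul, Subgroup.mem_center_iff.1 hz v]
  have hdec : ∀ {a : S}, a ∈ A → ∀ s, ∃ z ∈ Subgroup.center S, π ⁅a, s⁆ = π z := fun ha s => by
    obtain ⟨z, hz, hp'⟩ := h.comm_A ha s
    refine ⟨z, hz, ?_⟩
    rw [← mul_inv_eq_one, ← map_inv, ← map_mul, hπ]
    exact hp'
  have hAc : ∀ {a : S}, a ∈ A → ∀ s, ⁅π a, π s⁆ ∈ Subgroup.center (S ⧸ N) := fun ha s => by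
    obtain ⟨z, hz, he⟩ := hdec ha s
    rw [← map_commutatorElement, he]
    exact hZc hz
  have hcA : ∀ x s : S, ⁅x, s⁆ ∈ A := fun x s => ⟨W.K₁.comm_mem_qb x s, L.comm_mem_qb x s⟩
  have hQab : ∀ {a b : S}, a ∈ L.qb → b ∈ L.qb → Commute (π a) (π b) := fun ha hb => by
    rw [← commutatorElement_eq_one_iff_commute, ← map_commutatorElement, hπ]
    exact L.comm_mem_pb ha hb
  have hone : ∀ {z : S ⧸ N}, z ∈ Subgroup.center (S ⧸ N) → ∀ w : S ⧸ N, ⁅z, w⁆ = 1 := fun hz w =>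
    commutatorElement_eq_one_iff_mul_comm.2 (Subgroup.mem_center_iff.1 hz w).symm
  let f : S → S → S → S ⧸ N := fun x s v => ⁅⁅π x, π s⁆, π v⁆
  have hf : ∀ x s v, f x s v ∈ Subgroup.center (S ⧸ N) := fun x s v => by
    simp only [f, ← map_commutatorElement π x s]
    exact hAc (hcA x s) v
  have hcl : ∀ {a b : S}, a ∈ A → b ∈ A → ∀ v, ⁅π a * π b, π v⁆ = ⁅π a, π v⁆ * ⁅π b, π v⁆ := fun ha hb v => by
    rw [comm_mul_left, Subgroup.mem_center_iff.1 (hAc hb v), mul_inv_cancel_right,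
      Subgroup.mem_center_iff.1 (hAc ha v)]
  have hf1 : ∀ {x x' : S}, x ∈ L.qb → x' ∈ L.qb → ∀ s v, f (x * x') s v = f x' s v * f x s v := by
    intro x x' hx hx' s v
    have hcq : π ⁅x', s⁆ = ⁅π x', π s⁆ := map_commutatorElement π x' s
    simp only [f, map_mul]
    rw [comm_mul_left, ← hcq, (hQab hx (hcA x' s).2).eq, mul_inv_cancel_right, ← map_commutatorElement π x s,
      hcl (hcA x' s) (hcA x s) v]
  have hf2 : ∀ {x : S}, x ∈ L.qb → ∀ s s' v, f x (s * s') v = f x s v * f x s' v := by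
    intro x hx s s' v
    simp only [f, map_mul]
    rw [comm_mul_right, show π s * ⁅π x, π s'⁆ * (π s)⁻¹ = ⁅π x, π s'⁆ * ⁅(⁅π x, π s'⁆)⁻¹, π s⁆ by
        simp only [commutatorElement_def]; group,
      ← map_commutatorElement π x s', ← map_inv, ← map_commutatorElement π x s]
    have hz := hAc (inv_mem (hcA x s')) s
    rw [← mul_assoc, comm_mul_left (π ⁅x, s⁆ * π ⁅x, s'⁆), hone hz, mul_one, mul_inv_cancel, one_mul,
      hcl (hcA x s) (hcA x s') v]
  have hf3 : ∀ x s v v', f x s (v * v') = f x s v * f x s v' := by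
    intro x s v v'
    simp only [f, map_mul]
    rw [comm_mul_right, Subgroup.mem_center_iff.1 (hf x s v') (π v), mul_inv_cancel_right]
  have hf0 : ∀ {a : S}, a ∈ A → ∀ s v, f a s v = 1 := fun ha s v => hone (hAc ha s) _
  have hf20 : ∀ {x w : S}, x ∈ L.qb → w ∈ L.qb → ∀ v, f x w v = 1 := fun hx hw v => by
    simp only [f, commutatorElement_eq_one_iff_commute.2 (hQab hx hw), commutatorElement_one_left]
  have hf30 : ∀ {x w : S}, x ∈ L.qb → w ∈ L.qb → ∀ s, f x s w = 1 := fun {x w} _ hw s => by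
    simp only [f, ← map_commutatorElement π x s]
    exact commutatorElement_eq_one_iff_commute.2 (hQab (hcA x s).2 hw)
  have hfp2 : ∀ {x : S}, x ∈ L.qb → ∀ s v (k : ℕ), f x (s ^ k) v = f x s v ^ k := fun {x} hx s v k => by
    induction k with
    | zero => simp [f]
    | succ k ih => rw [pow_succ, hf2 hx, ih, pow_succ]
  have hfp3 : ∀ x s v (k : ℕ), f x s (v ^ k) = f x s v ^ k := fun x s v k => by
    induction k with
    | zero => simp [f]
    | succ k ih => rw [pow_succ, hf3, ih, pow_succ]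
  have key : ∀ {x : S}, x ∈ L.qb → ∀ s v, f x s v = 1 := by
    intro x hx s v
    obtain ⟨z, hz, hze⟩ := hdec (hcA x s) v
    have hfz : f x s v = π z := by simp only [f, ← map_commutatorElement]; exact hze
    have h1 : f (σ x) (σ s) (σ v) = f x s v ^ 2 := by
      have h3 : π (σ ⁅⁅x, s⁆, v⁆) = π (σ z) := by
        rw [← mul_inv_eq_one, ← map_inv, ← map_mul, ← map_inv, ← map_mul, hπ]
        refine hσP ?_
        rw [← hπ, map_mul, map_inv, hze, mul_inv_cancel]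
      have h4 : π (σ z) = π z ^ 2 := by
        rw [pow_two, ← map_mul, ← mul_inv_eq_one, ← map_inv, ← map_mul, hπ]
        exact hσZ hz
      rw [hfz, ← h4, ← h3]
      simp only [f, map_commutatorElement]
    have hs4 : f (σ x) (σ s) (σ v) = f (σ x) s v ^ 16 := by
      rw [show σ s = s ^ 4 * ((s ^ 4)⁻¹ * σ s) by group, hf2 (hσQ hx), hf20 (hσQ hx) (hσS s), mul_one,
        hfp2 (hσQ hx), show σ v = v ^ 4 * ((v ^ 4)⁻¹ * σ v) by group, hf3, hf30 (hσQ hx) (hσS v), mul_one,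
        hfp3, ← pow_mul]
    have h5 : f (σ x) s v ^ 2 = f x s v := by
      rw [pow_two, ← hf1 (hσQ hx) (hσQ hx), show σ x * σ x = σ x * σ x * x⁻¹ * x by group,
        hf1 (hσA hx).2 hx, hf0 (hσA hx), mul_one]
    have h6 : f x s v ^ 6 = 1 := by
      have h7 : f x s v ^ 2 = f x s v ^ 8 := by
        conv_rhs => rw [← h5, ← pow_mul]
        rw [← h1, hs4]
      rw [show (8 : ℕ) = 2 + 6 by norm_num, pow_add, left_eq_mul] at h7
      exact h7
    have h8 : f x s v ^ p = 1 := by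
      rw [hfz, ← map_pow, L.yb_pow (L.center_le_yb hz), map_one]
    have h9 : Nat.gcd 6 p = 1 := by
      have h10 : Nat.Coprime (2 * 3) p := Nat.Coprime.mul_left
        ((Nat.coprime_primes Nat.prime_two hm).2 (by omega)) ((Nat.coprime_primes Nat.prime_three hm).2 (by omega))
      exact h10
    have h11 := pow_gcd_eq_one.2 ⟨h6, h8⟩
    rwa [h9, pow_one] at h11
  -- the commutators are central
  have hxs : ∀ {x : S}, x ∈ L.qb → ∀ s, ⁅π x, π s⁆ ∈ Subgroup.center (S ⧸ N) := fun {x} hx s => by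
    refine Subgroup.mem_center_iff.2 fun w => ?_
    obtain ⟨v, rfl⟩ := hsurj w
    exact (commutatorElement_eq_one_iff_mul_comm.1 (key hx s v)).symm
  have hsx : ∀ {x : S}, x ∈ L.qb → ∀ s, ⁅π s, π x⁆ ∈ Subgroup.center (S ⧸ N) := fun {x} hx s => by
    rw [← commutatorElement_inv]; exact inv_mem (hxs hx s)
  have hab : ∀ a b : S, ⁅π a, π b⁆ ∈ Subgroup.center (S ⧸ N) := by
    intro a b
    obtain ⟨y, hy, w, hw, rfl⟩ := h.sup_E a
    obtain ⟨y', hy', w', hw', rfl⟩ := h.sup_E b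
    have hn : (Subgroup.center (S ⧸ N)).Normal := inferInstance
    rw [map_mul π y, comm_mul_left]
    refine mul_mem (hn.conj_mem _ (hxs hw _) _) ?_
    rw [map_mul π y', comm_mul_right,
      commutatorElement_eq_one_iff_commute.2 ((h.YE_ab y hy y' hy').map π), one_mul]
    exact hn.conj_mem _ (hsx hw' y) _
  have hpow : ∀ a : S, a ^ p ∈ N := by
    intro a
    obtain ⟨y, hy, w, hw, rfl⟩ := h.sup_E a
    have hz := hxs hw y
    rw [← hπ, map_pow, map_mul, Fusion.mul_pow_of_central (Subgroup.mem_center_iff.1 hz _).symm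
      (Subgroup.mem_center_iff.1 hz _).symm]
    obtain ⟨j, hj⟩ := hm.dvd_choose_self (by norm_num : (2 : ℕ) ≠ 0) (by omega : 2 < p)
    rw [← map_pow, h.YE_exp y hy, map_one, one_mul, ← map_pow, (hπ _).2 (L.pow_mem_pb hw), one_mul, hj, pow_mul]
    rw [← comm_pow_left (fun k => ?_) p, ← map_pow, (hπ _).2 (L.pow_mem_pb hw), commutatorElement_one_left, one_pow]
    rw [← map_pow]
    exact hxs (pow_mem hw k) y
  refine sZero_le (p := p) N (fun a b v => ?_) (fun a v => ?_) (fun a => pow_mem (hpow a) p) (fun _ _ a => hpow a)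
  · rw [← hπ, map_commutatorElement, map_commutatorElement]
    exact hone (hab a b) _
  · rw [← hπ, map_commutatorElement, (hπ _).2 (hpow a), commutatorElement_one_left]

end Win

end Cfsg.Agent.PushUp.Fam
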