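import Cfsg.Agent.Lib.PushUp.Fam.MidFrame
import Cfsg.Agent.Lib.PushUp.Fam.LongPaths
import Cfsg.Agent.Lib.PushUp.TwoEdgeGroup

/-!
# Five vertices in a row on critical paths of two edges
-/

set_option autoImplicit false

open scoped commutatorElement

namespace Cfsg.Agent.PushUp.Fam

open Cfsg Cfsg.Agent.PushUp

universe u

variable {S : Type u} [Group S] {p : ℕ}

/-- Four turning edges of which any two neighbours form a critical path. -/
structure Win (B : Leg S p → Prop) : Type (u + 1) where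
  a : Dart B
  c : Dart B
  c' : Dart B
  r : Dart B
  ta : Turn a c
  tc : Turn c c'
  tr : Turn c' r
  na : ¬ a.src (yI B) ≤ c.tgt (qI B)
  nc : ¬ c.src (yI B) ≤ c'.tgt (qI B)
  nr : ¬ c'.src (yI B) ≤ r.tgt (qI B)

/-- The path of two edges. -/
def two {B : Leg S p → Prop} (a b : Dart B) : ℕ → Dart B := fun i => if i = 0 then a else b

theorem crit_two {B : Leg S p → Prop} {a b : Dart B} (hl : Link a b) (hn : ¬ a.src (yI B) ≤ b.tgt (qI B)) :
    Crit 2 (two a b) := by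
  refine ⟨fun i hi => ?_, hn⟩
  obtain rfl : i = 0 := by omega
  exact hl

/-- Neighbours commute. -/
theorem near {B : Leg S p → Prop} (hmin : ShortPaths B 2) (f : Amal B) (i j : Ix B) :
    (yI B i).map (emb f i) ≤ (qI B j).map (emb f j) :=
  hmin 1 le_rfl (by omega) (fun _ => ⟨f, i, j⟩) fun k hk => absurd hk (by omega)

namespace Win

variable {B : Leg S p → Prop} (W : Win B)

/-- The middle vertex. -/
abbrev G₁ : Leg S p := W.c.r.1

/-- The vertex in front of the middle. -/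
abbrev K₁ : Leg S p := W.c.l.1

/-- The pullback to the common star. -/
abbrev pull (X : Subgroup (Amal B)) : Subgroup S := X.comap (bs W.c.f)

/-- The intersection of the three cores at the middle. -/
abbrev eb : Subgroup S := midE W.K₁ W.G₁ (W.pull (W.c'.tgt (qI B)))

/-- The same in the middle group. -/
abbrev eG : Subgroup W.G₁.G := W.eb.map W.G₁.e

variable [Finite S] (hmin : ShortPaths B 2)

omit [Finite S] in
theorem crit_a : Crit 2 (two W.a W.c) := crit_two W.ta.link W.na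

omit [Finite S] in
theorem crit_c : Crit 2 (two W.c W.c') := crit_two W.tc.link W.nc

omit [Finite S] in
theorem crit_r : Crit 2 (two W.c' W.r) := crit_two W.tr.link W.nr

include hmin

theorem ye_sh : W.a.src (yI B) ≤ sh W.c.f := src_sh_last hmin le_rfl W.crit_a

theorem yl_sh : W.c'.tgt (yI B) ≤ sh W.c.f := tgt_sh_first hmin le_rfl W.crit_c

theorem q_K_L : W.K₁.q = W.c'.r.1.q := q_eq hmin le_rfl W.crit_c

/-- The data at the common star of the second and the third vertex. -/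
theorem mid : Mid W.K₁ W.G₁ (W.pull (W.a.src (yI B))) (W.pull (W.c'.tgt (yI B))) (W.pull (W.a.src (qI B)))
    (W.pull (W.c'.tgt (qI B))) := by
  set φ := bs W.c.f
  have hb : (2 : ℕ) ≤ 2 := le_rfl
  have hK : W.a.tgt (qI B) = W.c.src (qI B) := (W.ta.link.src_eq qI_normal).symm
  have hG : W.c'.src (qI B) = W.c.tgt (qI B) := W.tc.link.src_eq qI_normal
  have hGy : W.c'.src (yI B) = W.c.tgt (yI B) := W.tc.link.src_eq yI_normal
  have hmem : ∀ {s : S} {i : Ix B}, s ∈ i.1.qb → φ s ∈ (qI B i).map (emb W.c.f i) := fun {s i} hs => by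
    rw [map_qI]; exact ⟨s, hs, rfl⟩
  have hmem' : ∀ {s : S} {i : Ix B}, φ s ∈ (qI B i).map (emb W.c.f i) → s ∈ i.1.qb := fun {s i} hs => by
    rw [map_qI] at hs; exact (Subgroup.mem_map_iff_mem (bs_injective _)).1 hs
  have hymem : ∀ {s : S} {i : Ix B}, s ∈ i.1.yb → φ s ∈ (yI B i).map (emb W.c.f i) := fun {s i} hs => by
    rw [map_yI]; exact ⟨s, hs, rfl⟩
  have hyexp : ∀ (f : Amal B) (i : Ix B), ∀ y ∈ (yI B i).map (emb f i), y ^ p = 1 := by
    rintro f i _ ⟨y, hy, rfl⟩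
    rw [← map_pow, i.1.pup.Y_exp y hy, map_one]
  refine
    { YE_le := fun s hs => hmem' (i := W.c.l) (hK.le (near hmin W.a.f W.a.l W.a.r hs))
      YL_le := fun s hs => hmem' (i := W.c.r) (hG.le (near hmin W.c'.f W.c'.r W.c'.l hs))
      sup_E := fun s => ?_
      sup_L := fun s => ?_
      YE_ab := fun x hx y hy => Commute.of_map (f := φ) (bs_injective _) (commute_Y hy hx)
      YL_ab := fun x hx y hy => Commute.of_map (f := φ) (bs_injective _) (commute_Y hy hx)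
      YE_exp := fun x hx => bs_injective W.c.f (by rw [map_pow, map_one]; exact hyexp _ _ _ hx)
      YL_exp := fun x hx => bs_injective W.c.f (by rw [map_pow, map_one]; exact hyexp _ _ _ hx)
      comm_E := fun x hx y hy => ?_
      comm_L := fun x hx y hy => ?_
      K_le := fun s hs => hmem' (near hmin W.c.f W.c.l W.c.r (hymem hs))
      G_le := fun s hs => hmem' (near hmin W.c.f W.c.r W.c.l (hymem hs))
      G_QL := fun s hs => near hmin W.c'.f W.c'.l W.c'.r (hGy.ge (hymem hs))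
      QE_cent := fun w hw x hx => Commute.of_map (f := φ) (bs_injective _) (commute_Q hw hx)
      QL_cent := fun w hw x hx => Commute.of_map (f := φ) (bs_injective _) (commute_Q hw hx)
      splitE := fun a ha => ?_
      splitL := fun a ha => ?_
      comm_QL := fun a ha b hb => ?_ }
  · obtain ⟨z, hz, y, hy, he⟩ := exists_split hmin hb W.crit_a (x := φ s) ⟨s, rfl⟩
    obtain ⟨x, rfl⟩ := W.ye_sh hmin hz
    obtain ⟨w, rfl⟩ := Q_sh _ _ hy
    exact ⟨x, hz, w, hmem' hy, bs_injective W.c.f (by rw [map_mul]; exact he)⟩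
  · obtain ⟨z, hz, y, hy, he⟩ := exists_split hmin hb (crit_rev hmin hb W.crit_c) (x := φ s) ⟨s, rfl⟩
    change z ∈ W.c'.tgt (yI B) at hz
    change y ∈ W.c.src (qI B) at hy
    obtain ⟨x, rfl⟩ := W.yl_sh hmin hz
    obtain ⟨w, rfl⟩ := Q_sh _ _ hy
    exact ⟨x, hz, w, hmem' hy, bs_injective W.c.f (by rw [map_mul]; exact he)⟩
  · have h1 := left_comm hmin hb W.crit_c W.ta hx (t := φ y) (hymem hy)
    change ⁅φ x, φ y⁆ ∈ W.c.src (cI B) at h1
    rw [Dart.src, map_cI, ← map_commutatorElement, Subgroup.mem_map_iff_mem (bs_injective _)] at h1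
    exact h1
  · have h1 := left_comm hmin hb W.crit_r W.tc (x := φ y) (hymem hy) (t := φ x) hx
    change ⁅φ y, φ x⁆ ∈ W.c'.src (cI B) at h1
    rw [W.tc.link.src_eq cI_normal, Dart.tgt, map_cI, ← map_commutatorElement,
      Subgroup.mem_map_iff_mem (bs_injective _)] at h1
    exact h1
  · obtain ⟨z, hz, w, hw, he⟩ := exists_split hmin hb (crit_rev hmin hb W.crit_a) (x := φ a)
      (Q_sh _ _ (hK.ge (hmem ha.1)))
    change z ∈ W.c.tgt (yI B) at hz
    rw [Dart.tgt, map_yI] at hz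
    obtain ⟨y, hy, rfl⟩ := hz
    change w ∈ W.a.src (qI B) at hw
    refine ⟨y, hy, y⁻¹ * a, ?_, (mul_inv_cancel_left y a).symm⟩
    show φ (y⁻¹ * a) ∈ W.a.src (qI B)
    rwa [map_mul, map_inv, he, inv_mul_cancel_left]
  · obtain ⟨z, hz, w, hw, he⟩ := exists_split hmin hb W.crit_c (x := φ a) (Q_sh _ _ (hG.ge (hmem ha.2)))
    change z ∈ W.c.src (yI B) at hz
    rw [Dart.src, map_yI] at hz
    obtain ⟨y, hy, rfl⟩ := hz
    change w ∈ W.c'.tgt (qI B) at hw
    refine ⟨y, hy, y⁻¹ * a, ?_, (mul_inv_cancel_left y a).symm⟩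
    show φ (y⁻¹ * a) ∈ W.c'.tgt (qI B)
    rwa [map_mul, map_inv, he, inv_mul_cancel_left]
  · obtain ⟨s, hs⟩ := Q_sh _ _ (hG.ge (hmem ha))
    obtain ⟨t, ht⟩ := Q_sh _ _ (hG.ge (hmem hb))
    show φ ⁅a, b⁆ ∈ W.c'.tgt (qI B)
    rw [map_commutatorElement, ← hs, ← ht, ← map_commutatorElement, Dart.tgt, map_qI]
    exact ⟨_, W.c'.r.1.comm_mem_qb s t, rfl⟩

omit hmin [Finite S] in
theorem eb_le : W.eb ≤ W.G₁.qb := inf_le_left.trans inf_le_right

theorem eb_normal_S : W.eb.Normal := by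
  refine ⟨fun e he s => ?_⟩
  obtain ⟨x, hx, w, hw, rfl⟩ := (W.mid hmin).sup_E s
  have h1 : w * e * w⁻¹ ∈ W.eb := by
    refine ⟨⟨W.K₁.qb_normal.conj_mem e he.1.1 w, W.G₁.qb_normal.conj_mem e he.1.2 w⟩, ?_⟩
    rw [show w * e * w⁻¹ = ⁅w, e⁆ * e by simp only [commutatorElement_def]; group]
    exact mul_mem ((W.mid hmin).comm_QL w hw e he.1.2) he.2
  rw [show x * w * e * (x * w)⁻¹ = x * (w * e * w⁻¹) * x⁻¹ by group]
  generalize w * e * w⁻¹ = e' at h1
  obtain ⟨y, hy, -, hc⟩ := (W.mid hmin).comm_A_YE h1.1 hx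
  rw [show x * e' * x⁻¹ = ⁅e', x⁆⁻¹ * e' by simp only [commutatorElement_def]; group]
  refine mul_mem (inv_mem ?_) h1
  have hy' := W.G₁.center_le_yb (W.K₁.cb_le_center hc)
  exact ⟨(W.mid hmin).G_A hy', (W.mid hmin).G_QL hy'⟩

theorem eG_normal : W.eG.Normal := by
  set E := W.eb.map (bs W.c.f)
  have hEL : E ≤ W.c'.tgt (qI B) := by
    rintro _ ⟨e, he, rfl⟩
    exact he.2
  have hEeq : (W.eG).map (emb W.c.f W.c.r) = E := by rw [Subgroup.map_map, emb_comp]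
  have hSN : sh W.c.f ≤ Subgroup.normalizer (E : Set (Amal B)) := by
    rintro _ ⟨s, rfl⟩
    refine Subgroup.le_normalizer_map (bs W.c.f) ⟨s, ?_, rfl⟩
    haveI := W.eb_normal_S hmin
    rw [Subgroup.normalizer_eq_top]
    trivial
  obtain ⟨v, hv, hvS, hvQ⟩ := exists_w hmin le_rfl W.crit_r
  change v ∈ W.r.tgt (yI B) at hv
  change v ∈ sh W.c'.f at hvS
  change v ∉ W.c'.src (qI B) at hvQ
  have hcv : ∀ v ∈ W.r.tgt (yI B), ∀ x ∈ E, v * x * v⁻¹ ∈ E := by
    intro v hv x hx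
    have hvS : v ∈ sh W.c'.f := tgt_sh_first hmin le_rfl W.crit_r hv
    have h1 : x ∈ sh W.r.f := by
      have h1 := hEL hx
      rw [← W.tr.link.src_eq qI_normal] at h1
      exact Q_sh _ _ h1
    obtain ⟨z, hz, w, hw, rfl⟩ := exists_split hmin le_rfl W.crit_r h1
    change z ∈ W.c'.src (yI B) at hz
    change w ∈ W.r.tgt (qI B) at hw
    have hcm := (comm_mem hmin le_rfl W.crit_r hz hv).1
    change ⁅z, v⁆ ∈ W.c'.src (yI B) at hcm
    have hYE : W.c'.src (yI B) ≤ E := by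
      rw [W.tc.link.src_eq yI_normal, Dart.tgt, map_yI]
      exact Subgroup.map_mono fun y hy => ⟨(W.mid hmin).G_A hy, (W.mid hmin).G_QL hy⟩
    have hwv : Commute v w := commute_Q hw hv
    rw [show v * (z * w) * v⁻¹ = ⁅z, v⁆⁻¹ * (z * (v * w * v⁻¹)) by simp only [commutatorElement_def]; group,
      hwv.eq, mul_inv_cancel_right]
    exact mul_mem (inv_mem (hYE hcm)) hx
  have hvN : v ∈ Subgroup.normalizer (E : Set (Amal B)) := Subgroup.mem_normalizer_iff.2 fun x =>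
    ⟨hcv v hv x, fun hx => by
      have := hcv v⁻¹ (inv_mem hv) _ hx
      simpa [mul_assoc] using this⟩
  obtain ⟨-, g, hg, hf⟩ := W.tc
  have hgen := gen hg (w := v) (hf ▸ hvS) (show v ∉ W.c.tgt (qI B) by rwa [← W.tc.link.src_eq qI_normal]) hSN hvN
  refine ⟨fun x hx y => ?_⟩
  have h1 := (Subgroup.mem_normalizer_iff.1 (hgen ⟨y, rfl⟩) _).1 (hEeq.le ⟨x, hx, rfl⟩)
  rw [← map_inv, ← map_mul, ← map_mul, ← hEeq] at h1
  exact (Subgroup.mem_map_iff_mem (emb_injective _ _)).1 h1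

omit [Finite S] in
/-- An element of the second `Y` centralized modulo the cores by the way to the fourth vertex lies in the third core. -/
theorem push {g n : W.G₁.G} {s : S} (hf : W.c'.f = W.c.f * io W.c.r g) (hgn : g = n * W.G₁.e s) {k : S}
    (hk : k ∈ W.K₁.yb) (hn : ⁅W.G₁.e k, n⁆ ∈ W.eG) : k ∈ W.pull (W.c'.tgt (qI B)) := by
  set f1 := W.c.f * io W.c.r n with hf1
  have e1 : W.c'.tgt (qI B) = (qI B W.c'.r).map (emb f1 W.c'.r) := by
    rw [Dart.tgt, hf, hgn, map_mul, ← mul_assoc, show io W.c.r (W.G₁.e s) = io W.c'.r (W.c'.r.1.e s) by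
      rw [io_e, io_e], map_emb_mul _ _ _ (qI_normal _)]
  have hk0 : bs W.c.f k ∈ (qI B W.c'.r).map (emb W.c.f W.c'.r) :=
    near hmin W.c.f W.c.l W.c'.r (by rw [map_yI]; exact ⟨k, hk, rfl⟩)
  obtain ⟨e, he, hee⟩ := hn
  obtain ⟨w, hw, hwk⟩ := hk0
  set k0 := emb W.c.f W.c.r n with hk0def
  have h2 : k0 * bs W.c.f k * k0⁻¹ ∈ W.c'.tgt (qI B) := by
    rw [e1]
    exact ⟨w, hw, by rw [hf1, emb_shift, hwk]⟩
  have h3 : bs W.c.f e = ⁅bs W.c.f k, k0⁆ := by
    rw [← emb_e W.c.f W.c.r e, hee, map_commutatorElement, emb_e]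
  show bs W.c.f k ∈ W.c'.tgt (qI B)
  rw [show bs W.c.f k = ⁅bs W.c.f k, k0⁆ * (k0 * bs W.c.f k * k0⁻¹) by simp only [commutatorElement_def]; group,
    ← h3]
  exact mul_mem he.2 h2

theorem disp_hyp (g : W.G₁.G) (hg : ∀ w ∈ W.G₁.Q, ⁅w, g⁆ ∈ W.eG) : g ∈ W.G₁.M := by
  by_contra hgM
  haveI := W.eG_normal hmin
  haveI := W.G₁.pup.Qn
  haveI : (W.G₁.Q.map (QuotientGroup.mk' W.eG)).Normal :=
    W.G₁.pup.Qn.map _ (QuotientGroup.mk'_surjective _)
  set N := modCent W.eG W.G₁.Q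
  have hgN : g ∈ N := mem_modCent.2 fun w hw => by rw [← commutatorElement_inv]; exact inv_mem (hg w hw)
  have htop : N ⊔ W.G₁.e.range = ⊤ :=
    W.G₁.pup.top _ le_sup_right fun hle => hgM (hle (Subgroup.mem_sup_left hgN))
  obtain ⟨-, gc, -, hf⟩ := W.tc
  obtain ⟨n, hn, t, ⟨s, rfl⟩, hgn⟩ := Subgroup.mem_sup_of_normal_left.1 (htop.ge (Subgroup.mem_top gc))
  refine W.nc fun x hx => ?_
  rw [Dart.src, map_yI] at hx
  obtain ⟨k, hk, rfl⟩ := hx
  refine W.push hmin hf hgn.symm hk ?_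
  rw [← commutatorElement_inv]
  exact inv_mem (mem_modCent.1 hn _ ((W.mid hmin).K_le hk))

theorem disp {s : S} (hs : s ∉ W.G₁.qb) (D : Subgroup S) (hD : D ≤ W.G₁.qb) (hc : ∀ d ∈ D, ⁅d, s⁆ ∈ W.eb) :
    W.G₁.q ≤ D.relIndex W.G₁.qb := by
  haveI := W.eG_normal hmin
  rw [← Subgroup.relIndex_map_map_of_injective D W.G₁.qb W.G₁.inj, W.G₁.map_qb]
  refine W.G₁.pup.disp W.G₁.Q W.eG W.G₁.pup.Qn inferInstance ?_ le_rfl (W.disp_hyp hmin) _ (W.G₁.e_mem s) hs _ ?_ ?_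
  · exact (Subgroup.map_mono W.eb_le).trans W.G₁.map_qb.le
  · exact (Subgroup.map_mono hD).trans W.G₁.map_qb.le
  · rintro _ ⟨d, hd, rfl⟩
    rw [← map_commutatorElement]
    exact ⟨_, hc d hd, rfl⟩

theorem comm_A_eb {a : S} (ha : a ∈ W.K₁.qb ⊓ W.G₁.qb) (s : S) : ⁅a, s⁆ ∈ W.eb := by
  have h := W.mid hmin
  obtain ⟨x, hx, w, hw, rfl⟩ := h.sup_E s
  obtain ⟨-, -, -, hc⟩ := h.comm_A_YE ha hx
  have hy' := W.G₁.center_le_yb (W.K₁.cb_le_center hc)
  rw [comm_mul_right]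
  exact mul_mem ⟨h.G_A hy', h.G_QL hy'⟩ ((W.eb_normal_S hmin).conj_mem _
    ⟨⟨W.K₁.comm_mem_qb a w, W.G₁.comm_mem_qb a w⟩, h.comm_QL a ha.2 w hw⟩ x)

theorem relIndex_A : (W.K₁.qb ⊓ W.G₁.qb).relIndex W.G₁.qb = W.K₁.q := by
  rw [Subgroup.inf_relIndex_right]
  have h1 : W.G₁.qb ⊔ W.K₁.qb = ⊤ := eq_top_iff.2 fun s _ => by
    obtain ⟨x, hx, w, hw, rfl⟩ := (W.mid hmin).sup_L s
    exact mul_mem (Subgroup.mem_sup_left ((W.mid hmin).YL_le hx)) (Subgroup.mem_sup_right hw)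
  rw [← Subgroup.relIndex_sup_right, h1, Subgroup.relIndex_top_right, W.K₁.idx]

theorem q_le : W.G₁.q ≤ W.K₁.q := by
  obtain ⟨x, hx, hxQ⟩ := (W.mid hmin).exists_x
  rw [← W.relIndex_A hmin]
  exact W.disp hmin hxQ _ inf_le_right fun d hd => W.comm_A_eb hmin hd x

theorem exists_not_eb {x : S} (hxQ : x ∉ W.G₁.qb) :
    ∃ l ∈ W.pull (W.c'.tgt (yI B)), ⁅x, l⁆ ∉ W.eb := by
  by_contra hcon
  simp only [not_exists, not_and, not_not] at hcon
  have h := W.mid hmin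
  have h1 := W.disp hmin hxQ W.G₁.qb le_rfl fun w hw => by
    obtain ⟨l, hl, a, ha, rfl⟩ := h.qG_split hw
    rw [comm_mul_left]
    refine mul_mem ((W.eb_normal_S hmin).conj_mem _ (W.comm_A_eb hmin ha x) l) ?_
    rw [← commutatorElement_inv]
    exact inv_mem (hcon l hl)
  rw [Subgroup.relIndex_self] at h1
  have := W.G₁.two_le
  omega

end Win

end Cfsg.Agent.PushUp.Fam
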